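import Mathlib
import Cfsg.Agent.Lib.Comput.Net

/-! Simple groups with few conjugacy classes: the search over class equations (definitions). -/

set_option autoImplicit false

namespace CfsgLib.FewCl

open CfsgLib.Comput (force)

/-- `m` treated classes of radical `p q` and centraliser order `c` whose `p`-part is not yet treated. -/
structure Ent where
  p : ℕ
  q : ℕ
  c : ℕ
  m : ℕ

/-- `m` classes of radical `s` and centraliser order `c`. -/
structure Gp where
  s : ℕ
  c : ℕ
  m : ℕ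

/-- State of the search. -/
structure St where
  sl : ℕ
  a : ℕ
  b : ℕ
  L : ℕ
  Q : ℕ
  R : ℕ
  R1 : ℕ
  lc : ℕ
  ls : ℕ
  nm : ℕ
  cz : ℕ
  nf : List ℕ
  fl : List ℕ
  un : List Ent
  cl : List Gp

scoped notation "IF " b " THEN " x " ELSE " y => @Bool.rec (fun _ => _) y x b
scoped notation x " AND " y:60 => @Bool.rec (fun _ => Bool) false y x
scoped notation x " IMP " y:60 => @Bool.rec (fun _ => Bool) true y x
scoped notation x " ORE " y:60 => @Bool.rec (fun _ => Bool) y true x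

/-- `d ∣ x` -/
scoped notation "DV(" d ", " x ")" => Nat.beq (Nat.mod x d) 0

noncomputable def allL {α : Type} (l : List α) (f : α → Bool) : Bool :=
  List.rec (motive := fun _ => Bool) true (fun x _ r => (f x) AND r) l

noncomputable def memL (x : ℕ) (l : List ℕ) : Bool :=
  List.rec (motive := fun _ => Bool) false (fun y _ r => (Nat.beq x y) ORE r) l

/-- `f 0 ∧ … ∧ f (n - 1)` -/
noncomputable def allN (n : ℕ) (f : ℕ → Bool) : Bool :=
  Nat.rec (motive := fun _ => Bool) true (fun i r => (f i) AND r) n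

/-- all `v * w` with `w` a product of members of `ps`, as long as `ct` holds -/
noncomputable def smo (ps : List ℕ) (ct f : ℕ → Bool) : ℕ → Bool :=
  List.rec (motive := fun _ => ℕ → Bool) f
    (fun p _ r => Nat.rec (motive := fun _ => ℕ → Bool) (fun _ => false)
      (fun _ l v => (ct v) IMP ((r v) AND (force (Nat.mul v p) l))) 100) ps

/-- all primes up to `x` -/
noncomputable def allPr (x : ℕ) (f : ℕ → Bool) : Bool :=
  (List.rec (motive := fun _ => Bool) true (fun p _ r => (Nat.ble p x) IMP ((f p) AND r))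
    [2, 3, 5, 7, 11, 13, 17, 19, 23, 29, 31]) AND
  (allN (Nat.div (Nat.sub x 35) 2) fun i => force (Nat.add 37 (Nat.mul 2 i)) fun p =>
    (Nat.beq (Nat.gcd p 200560490130) 1) IMP (f p))

/-- all primes `p` with `p ≤ 31` or `p ^ 2 ≤ x`, and `p ≤ x` -/
noncomputable def allPr2 (x : ℕ) (f : ℕ → Bool) : Bool :=
  IF Nat.ble x 1368 THEN allPr (IF Nat.ble x 31 THEN x ELSE 31) f
  ELSE (Nat.rec (motive := fun _ => ℕ → Bool) (fun _ => false)
    (fun _ l y => IF Nat.ble (Nat.mul y y) x THEN force (Nat.mul 2 y) l ELSE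
      Nat.rec (motive := fun _ => ℕ → Bool) (fun y => allPr y f)
        (fun _ l y => force (Nat.succ (Nat.div (Nat.add y (Nat.div x y)) 2)) l) 3 y) 40 64)

/-- erase and pass on -/
noncomputable def eraK (x : ℕ) (l : List ℕ) (k : List ℕ → Bool) : Bool :=
  List.rec (motive := fun _ => List ℕ → Bool) k
    (fun y _ r u => IF Nat.beq x y THEN r u ELSE r (y :: u)) l []

noncomputable def addK (R r : ℕ) (l : List ℕ) (k : List ℕ → Bool) : Bool :=
  IF (DV(r, R) ORE memL r l) THEN k l ELSE k (r :: l)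

noncomputable def addD (e R r : ℕ) (l : List ℕ) (k : List ℕ → Bool) : Bool :=
  IF DV(r, e) THEN addK R r l k ELSE k l

noncomputable def lenL {α : Type} (l : List α) : ℕ :=
  List.rec (motive := fun _ => ℕ) 0 (fun _ _ r => Nat.succ r) l

/-- the list of the primes that must still occur -/
noncomputable def ndK (un : List Ent) (k : List ℕ → Bool) : List ℕ → Bool :=
  List.rec (motive := fun _ => List ℕ → Bool) k
    (fun e _ r u => IF memL e.p u THEN r u ELSE r (e.p :: u)) un

/-- the cofactors of the entries waiting for `S` -/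
noncomputable def cofK (S : ℕ) (un : List Ent) (k : List ℕ → Bool) : List ℕ → Bool :=
  List.rec (motive := fun _ => List ℕ → Bool) k
    (fun e _ r u => IF Nat.beq e.p S THEN (IF memL e.q u THEN r u ELSE r (e.q :: u)) ELSE r u) un

noncomputable def cofF1 (e : Ent) (r : ℕ → List ℕ → Bool) (u : List ℕ) (v : ℕ) : Bool :=
  IF DV(Nat.mul e.q e.q, e.c) THEN (IF memL e.q u THEN r v u ELSE r v (e.q :: u)) ELSE r v u

/-- the same when all entries waiting for `S` are used up -/
noncomputable def cofF (S : ℕ) (un : List Ent) (k : ℕ → List ℕ → Bool) : ℕ → List ℕ → Bool :=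
  List.rec (motive := fun _ => ℕ → List ℕ → Bool) k
    (fun e _ r v u => IF Nat.beq e.p S THEN force (Nat.lcm v e.c) (cofF1 e r u) ELSE r v u) un

abbrev Acc := List (ℕ × ℕ × ℕ)

noncomputable def dist3 (e : Ent) (r : Acc → List Ent → Bool) (acc : Acc) (u : List Ent) (d t : ℕ) : Bool :=
  force (Nat.sub e.m t) fun m' => r ((e.q, t, Nat.mul t d) :: acc) (⟨e.p, e.q, e.c, m'⟩ :: u)

noncomputable def dist2 (fu : Bool) (e : Ent) (r : Acc → List Ent → Bool) (acc : Acc) (u : List Ent)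
    (d : ℕ) : Bool :=
  (r ((e.q, e.m, Nat.mul e.m d) :: acc) u) AND (fu ORE allN e.m (dist3 e r acc u d))

noncomputable def dist1 (fu : Bool) (c : ℕ) (e : Ent) (r : Acc → List Ent → Bool) (acc : Acc)
    (u : List Ent) : Bool :=
  IF (DV(e.c, c) AND (DV(Nat.mul e.q e.q, c) IMP DV(Nat.mul e.q e.q, e.c))) THEN
    force (Nat.div c e.c) (dist2 fu e r acc u)
  ELSE (fu ORE r ((e.q, 0, 0) :: acc) (e :: u))

/-- distribute the waiting entries -/
noncomputable def dist (fu : Bool) (S c : ℕ) (un : List Ent) (k : Acc → List Ent → Bool) :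
    Acc → List Ent → Bool :=
  List.rec (motive := fun _ => Acc → List Ent → Bool) k
    (fun e _ r acc u => IF Nat.beq e.p S THEN dist1 fu c e r acc u ELSE r acc (e :: u)) un

noncomputable def sumV (acc : Acc) : ℕ :=
  List.rec (motive := fun _ => ℕ) 0 (fun x _ r => Nat.add x.2.2 r) acc

noncomputable def sumVq (q : ℕ) (acc : Acc) : ℕ :=
  List.rec (motive := fun _ => ℕ) 0 (fun x _ r => IF Nat.beq x.1 q THEN Nat.add x.2.2 r ELSE r) acc

noncomputable def sumTq (q : ℕ) (acc : Acc) : ℕ :=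
  List.rec (motive := fun _ => ℕ) 0 (fun x _ r => IF Nat.beq x.1 q THEN Nat.add x.2.1 r ELSE r) acc

noncomputable def chk2 (c m : ℕ) (acc : Acc) (q D : ℕ) : Bool :=
  DV(q, Nat.div c D) ORE DV(D, Nat.add m (sumVq q acc))

noncomputable def chk1 (c m : ℕ) (acc : Acc) (x : ℕ × ℕ × ℕ) : Bool :=
  DV(x.1, c) IMP ((Nat.ble m (sumTq x.1 acc)) AND force (Nat.gcd c (Nat.pow x.1 64)) (chk2 c m acc x.1))

/-- the Frobenius conditions -/
noncomputable def chk (S c m : ℕ) (k : List Ent → Bool) (acc : Acc) (un : List Ent) : Bool :=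
  (allL acc (chk1 c m acc)) IMP ((Nat.ble (Nat.mul (Nat.add m (sumV acc)) S) (Nat.mul m c)) IMP k un)

noncomputable def nwA (a b c m : ℕ) : ℕ :=
  Nat.div (Nat.sub (Nat.mul a c) (Nat.mul m b)) (Nat.gcd (Nat.sub (Nat.mul a c) (Nat.mul m b)) (Nat.mul b c))

noncomputable def nwB (a b c m : ℕ) : ℕ :=
  Nat.div (Nat.mul b c) (Nat.gcd (Nat.sub (Nat.mul a c) (Nat.mul m b)) (Nat.mul b c))

noncomputable def fin3 (k : St → Bool) (s : St) (S c m Q R R1 nm cz : ℕ) (fl : List ℕ) (un : List Ent)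
    (nf : List ℕ) (L : ℕ) : Bool :=
  (Nat.beq (Nat.gcd (Nat.div L (Nat.gcd L Q)) R) 1) IMP
    k ⟨Nat.sub s.sl m, nwA s.a s.b c m, nwB s.a s.b c m, L, Q, R, R1, c, S, nm, cz, nf, fl, un,
      ⟨S, c, m⟩ :: s.cl⟩

/-- the new state -/
noncomputable def fin2 (k : St → Bool) (s : St) (S c m add Q R R1 nm cz : ℕ) (fl : List ℕ) (un : List Ent)
    (nf : List ℕ) : Bool :=
  force (Nat.lcm s.L add) (fin3 k s S c m Q R R1 nm cz fl un nf)

/-- no new Sylow subgroup is reached -/
noncomputable def optA (k : St → Bool) (s : St) (S c m : ℕ) (un : List Ent) (nf : List ℕ) : Bool :=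
  fin2 k s S c m c s.Q s.R s.R1 s.nm s.cz s.fl un nf

noncomputable def optB3 (K : ℕ) (k : St → Bool) (s : St) (S c m : ℕ) (un : List Ent) (Q R : ℕ)
    (nf : List ℕ) : Bool :=
  IF Nat.beq S 2 THEN
    force (IF Nat.beq s.nm 0 THEN Nat.mul c (Nat.succ (Nat.mul c (Nat.sub K 1))) ELSE s.nm)
      fun nm => fin2 k s S c m c Q R s.R1 nm c (S :: s.fl) un nf
  ELSE fin2 k s S c m c Q R s.R1 s.nm s.cz (S :: s.fl) un nf

noncomputable def optB2 (K : ℕ) (k : St → Bool) (s : St) (S c m : ℕ) (un : List Ent) (q : ℕ) : Bool :=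
  IF DV(S, Nat.div c q) THEN false ELSE
    force (Nat.mul s.Q q) fun Q => force (Nat.mul s.R S) fun R => eraK S s.nf (optB3 K k s S c m un Q R)

/-- the centre of a Sylow `S`-subgroup is reached -/
noncomputable def optB (K : ℕ) (k : St → Bool) (s : St) (S c m : ℕ) (un : List Ent) : Bool :=
  force (Nat.gcd c (Nat.pow S 64)) (optB2 K k s S c m un)

noncomputable def optAB (K : ℕ) (k : St → Bool) (s : St) (fu : Bool) (S c m : ℕ) (un : List Ent) : Bool :=
  IF DV(S, s.R) THEN optA k s S c m un s.nf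
  ELSE ((fu ORE addK s.R S s.nf (optA k s S c m un)) AND optB K k s S c m un)

noncomputable def optC2 (k : St → Bool) (s : St) (S c m e : ℕ) (un : List Ent) (Q R R1 : ℕ)
    (nf : List ℕ) : Bool :=
  addD e R 3 nf fun nf => addD e R 5 nf fun nf => addD e R 7 nf
    (fin2 k s S c m (Nat.mul c e) Q R R1 s.nm s.cz s.fl un)

noncomputable def optC1 (k : St → Bool) (s : St) (S c m e : ℕ) (un : List Ent) : Bool :=
  force (Nat.mul s.Q S) fun Q => force (Nat.mul s.R S) fun R => force (Nat.mul s.R1 S) fun R1 =>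
    eraK S s.nf (optC2 k s S c m e un Q R R1)

noncomputable def optC0 (K : ℕ) (k : St → Bool) (s : St) (fu : Bool) (S c m e : ℕ) : Bool :=
  (Nat.ble 2 e) IMP ((Nat.ble (Nat.add e m) K) IMP
    dist fu S c s.un (chk S c m (optC1 k s S c m e)) [] [])

/-- Sylow `S`-subgroup of order `S` -/
noncomputable def optC (K : ℕ) (k : St → Bool) (s : St) (fu : Bool) (S c m : ℕ) : Bool :=
  DV(S, s.R) ORE (DV(m, Nat.sub S 1) IMP force (Nat.div (Nat.sub S 1) m) (optC0 K k s fu S c m))

noncomputable def placeF (K : ℕ) (k : St → Bool) (s : St) (S c m : ℕ) (fu : Bool) : Bool :=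
  IF DV(Nat.mul S S, c) THEN dist fu S c s.un (chk S c m (optAB K k s fu S c m)) [] []
  ELSE optC K k s fu S c m

/-- place `m` classes of prime radical `S` and centraliser order `c` -/
noncomputable def placeP (K : ℕ) (k : St → Bool) (s : St) (mA S c m : ℕ) : Bool :=
  IF Nat.ble m mA THEN placeF K k s S c m false ELSE placeF K k s S c m true

/-- place `m` classes of radical `p q` and centraliser order `c` -/
noncomputable def placeC (k : St → Bool) (s : St) (p q S c m : ℕ) : Bool :=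
  addK s.R p s.nf fun nf => addK s.R q nf
    (fin2 k s S c m c s.Q s.R s.R1 s.nm s.cz s.fl (⟨p, q, c, m⟩ :: ⟨q, p, c, m⟩ :: s.un))

noncomputable def allM1 (b mx : ℕ) (f : ℕ → Bool) (ac : ℕ) : Bool :=
  Nat.rec (motive := fun _ => ℕ → Bool) (fun _ => true)
    (fun _ l m => (Nat.ble (Nat.succ (Nat.mul m b)) ac) IMP ((f m) AND force (Nat.succ m) l)) mx 1

/-- loop over the multiplicity `1 ≤ m ≤ mx` with `m b < a c` -/
noncomputable def allM (s : St) (lo mx : ℕ) (f : ℕ → ℕ → Bool) (c : ℕ) : Bool :=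
  (Nat.ble lo c) IMP ((Nat.beq (Nat.gcd (Nat.div c (Nat.gcd c s.Q)) s.R) 1) IMP
    force (Nat.mul s.a c) (allM1 s.b mx (f c)))

noncomputable def leB (hi v : ℕ) : Bool := Nat.ble v hi

/-- the lower bound for the centraliser order -/
noncomputable def loS (s : St) (lo S : ℕ) : ℕ :=
  IF Nat.ble (Nat.succ S) s.ls THEN lo ELSE (IF Nat.ble lo s.lc THEN Nat.succ s.lc ELSE lo)

noncomputable def candQ (K : ℕ) (k : St → Bool) (s : St) (hi mx mA S lo v : ℕ) (ps : List ℕ) : Bool :=
  smo ps (leB hi) (allM s lo mx (placeP K k s mA S)) v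

noncomputable def candP1 (K : ℕ) (k : St → Bool) (s : St) (hi mx mA S lo : ℕ) : Bool :=
  IF Nat.beq mA 0 THEN cofF S s.un (candQ K k s hi mx mA S lo) S [S]
  ELSE cofK S s.un (candQ K k s hi mx mA S lo S) [S]

/-- candidates of prime radical `S` -/
noncomputable def candP (K : ℕ) (k : St → Bool) (s : St) (lo hi mx mA S : ℕ) : Bool :=
  (Nat.beq (Nat.gcd S s.R1) 1) IMP force (loS s lo S) (candP1 K k s hi mx mA S)

noncomputable def candN1 (K : ℕ) (k : St → Bool) (s : St) (hi mx mA S lo : ℕ) : Bool :=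
  candQ K k s hi mx mA S lo S [S]

/-- candidates of a new prime radical `S` -/
noncomputable def candN (K : ℕ) (k : St → Bool) (s : St) (nd : List ℕ) (lo hi mx mA S : ℕ) : Bool :=
  (memL S nd) ORE ((Nat.beq (Nat.gcd S s.R1) 1) IMP force (loS s lo S) (candN1 K k s hi mx mA S))

noncomputable def candC2 (k : St → Bool) (s : St) (hi p q S lo mx : ℕ) : Bool :=
  smo [p, q] (leB hi) (allM s lo mx (placeC k s p q S)) S

noncomputable def candC1 (k : St → Bool) (s : St) (nd : List ℕ) (fr lo hi p q S : ℕ) : Bool :=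
  (Nat.ble S hi) IMP ((Nat.beq (Nat.gcd S s.R1) 1) IMP force (loS s lo S) fun lo =>
    force (Nat.sub (Nat.sub fr (IF memL p nd THEN 0 ELSE 1)) (IF memL q nd THEN 0 ELSE 1))
      (candC2 k s hi p q S lo))

/-- candidates of radical `p q` -/
noncomputable def candC (k : St → Bool) (s : St) (nd : List ℕ) (fr lo hi p q : ℕ) : Bool :=
  force (Nat.mul p q) (candC1 k s nd fr lo hi p q)

noncomputable def leaf3 (s : St) (f : ℕ → Bool) (t c : ℕ) : Bool :=
  (Nat.ble s.lc c) IMP force (Nat.mul c t) fun n =>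
    DV(s.L, n) IMP (((Nat.beq s.nm 0) ORE Nat.ble n s.nm) IMP f c)

noncomputable def leaf2 (s : St) (f : ℕ → Bool) (w t x : ℕ) : Bool :=
  DV(s.a, x) IMP ((Nat.ble 5 t) IMP force (Nat.mul w (Nat.div x s.a)) (leaf3 s f t))

noncomputable def leaf1 (s : St) (f : ℕ → Bool) (w t : ℕ) : Bool :=
  force (Nat.succ (Nat.mul s.sl t)) (leaf2 s f w t)

/-- the last classes: `c = w u`, `b = w t`, `a u = m t + 1` -/
noncomputable def leaf (s : St) (f : ℕ → Bool) (w : ℕ) : Bool := force (Nat.div s.b w) (leaf1 s f w)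

noncomputable def dvB (b v : ℕ) : Bool := DV(v, b)

noncomputable def prodL (l : List ℕ) : ℕ := List.rec (motive := fun _ => ℕ) 1 (fun p _ r => Nat.mul p r) l

noncomputable def leafQ (K : ℕ) (k : St → Bool) (s : St) (S : ℕ) (ps : List ℕ) (c : ℕ) : Bool :=
  DV(S, c) IMP ((Nat.ble (loS s 0 S) c) IMP
    ((Nat.ble c 18446744073709551615) AND (DV(c, Nat.pow (prodL ps) 64) IMP placeF K k s S c s.sl true)))

noncomputable def leafP (K : ℕ) (k : St → Bool) (s : St) (S : ℕ) (ps : List ℕ) : Bool :=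
  smo ps (dvB s.b) (leaf s (leafQ K k s S ps)) 1

noncomputable def leafS (K : ℕ) (k : St → Bool) (s : St) (S : ℕ) : Bool := leafP K k s S [S]

/-- the least prime factor -/
noncomputable def minF (c : ℕ) (f : ℕ → Bool) : Bool :=
  Nat.rec (motive := fun _ => ℕ → Bool) (fun _ => false)
    (fun _ l p => IF DV(p, c) THEN f p ELSE
      (IF Nat.ble (Nat.mul p p) c THEN force (Nat.succ p) l ELSE f c)) 20000 2

noncomputable def leafN (K : ℕ) (k : St → Bool) (s : St) (c : ℕ) : Bool :=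
  (Nat.beq (Nat.gcd c s.R) 1) IMP minF c fun S => leafQ K k s S [S] c

noncomputable def leaves0 (K : ℕ) (k : St → Bool) (s : St) : Bool :=
  (allL s.fl (leafS K k s)) AND leaf s (leafN K k s) 1

noncomputable def leaves (K : ℕ) (k : St → Bool) (s : St) (nd : List ℕ) : Bool :=
  List.rec (motive := fun _ => Bool) (leaves0 K k s)
    (fun S l _ => List.rec (motive := fun _ => Bool)
      (cofK S s.un (leafP K k s S) [S]) (fun _ _ _ => true) l) nd

noncomputable def cLt (k : St → Bool) (s : St) (nd : List ℕ) (fr lo hi p q : ℕ) : Bool :=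
  (Nat.ble q p) ORE candC k s nd fr lo hi p q

noncomputable def cNe (k : St → Bool) (s : St) (nd : List ℕ) (fr lo hi p q : ℕ) : Bool :=
  (Nat.beq q p) ORE candC k s nd fr lo hi p q

noncomputable def inC (k : St → Bool) (s : St) (nd : List ℕ) (fr lo hi : ℕ) : Bool :=
  IF Nat.beq fr 1 THEN allL nd fun p => allL nd (cLt k s nd fr lo hi p)
  ELSE (IF Nat.beq fr 2 THEN allL nd fun p => allPr (Nat.div hi p) (cNe k s nd fr lo hi p)
    ELSE allPr2 hi fun p => allPr (Nat.div hi p) (cLt k s nd fr lo hi p))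

noncomputable def inN1 (K : ℕ) (k : St → Bool) (s : St) (nd : List ℕ) (lo hi mx mA : ℕ) : Bool :=
  allPr2 hi (candN K k s nd lo hi mx mA)

noncomputable def inN (K : ℕ) (k : St → Bool) (s : St) (nd : List ℕ) (fr lo hi : ℕ) : Bool :=
  (force (IF Nat.ble s.sl fr THEN Nat.sub s.sl 1 ELSE fr) fun mx =>
    force (Nat.sub fr 1) (inN1 K k s nd lo hi mx)) AND ((Nat.ble 3 s.sl) IMP inC k s nd fr lo hi)

noncomputable def inD (K : ℕ) (k : St → Bool) (s : St) (nd : List ℕ) (fr lo hi mx : ℕ) : Bool :=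
  allL nd (candP K k s lo hi mx fr)

noncomputable def in3 (K : ℕ) (k : St → Bool) (s : St) (nd : List ℕ) (fr lo hi : ℕ) : Bool :=
  (Nat.ble lo hi) IMP
    ((force (IF Nat.ble s.sl (Nat.succ fr) THEN Nat.sub s.sl 1 ELSE Nat.succ fr) (inD K k s nd fr lo hi)) AND
    ((Nat.ble 1 fr) IMP inN K k s nd fr lo hi))

noncomputable def hi2 (sl a b L : ℕ) : ℕ := Nat.div (Nat.mul (Nat.mul sl b) L) (Nat.sub (Nat.mul a L) b)

noncomputable def minB (x y : ℕ) : ℕ := IF Nat.ble x y THEN x ELSE y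

noncomputable def in2 (K : ℕ) (k : St → Bool) (s : St) (nd : List ℕ) (fr lo h1 : ℕ) : Bool :=
  force (IF Nat.ble (Nat.mul s.a s.L) s.b THEN h1 ELSE force (hi2 s.sl s.a s.b s.L) (minB h1))
    (in3 K k s nd fr lo)

noncomputable def in1 (K : ℕ) (k : St → Bool) (s : St) (nd : List ℕ) (fr lo : ℕ) : Bool :=
  force (Nat.div (Nat.mul (Nat.succ (Nat.mul 5 s.sl)) s.b) (Nat.mul 5 s.a)) (in2 K k s nd fr lo)

noncomputable def maxB (x y : ℕ) : ℕ := IF Nat.ble x y THEN y ELSE x

noncomputable def inner (K : ℕ) (k : St → Bool) (s : St) (nd : List ℕ) (fr : ℕ) : Bool :=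
  force (force (Nat.succ (Nat.div s.b s.a)) (maxB s.lc)) (in1 K k s nd fr)

noncomputable def step5 (K : ℕ) (k : St → Bool) (nd : List ℕ) (ln sl : ℕ) (s : St) : Bool :=
  (leaves K k s nd) AND ((Nat.ble 2 sl) IMP force (Nat.sub sl ln) (inner K k s nd))

noncomputable def step4 (K : ℕ) (k : St → Bool) (s : St) (nd : List ℕ) (ln sl a b : ℕ) : Bool :=
  ((Nat.beq s.nm 0) ORE Nat.ble (Nat.succ b) (Nat.mul a s.nm)) IMP
    St.rec (motive := fun _ => Bool) (fun _ _ _ L Q R R1 lc ls nm cz nf fl un cl =>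
      step5 K k nd ln sl ⟨sl, a, b, L, Q, R, R1, lc, ls, nm, cz, nf, fl, un, cl⟩) s

noncomputable def step3 (K : ℕ) (k : St → Bool) (s : St) (nd : List ℕ) (ln sl : ℕ) : Bool :=
  (Nat.ble ln sl) IMP (((Nat.beq s.nm 0) ORE Nat.ble s.L s.nm) IMP
    force s.a fun a => force s.b (step4 K k s nd ln sl a))

noncomputable def step1 (K : ℕ) (k : St → Bool) (s : St) (nd : List ℕ) : Bool :=
  force (lenL nd) fun ln => force s.sl (step3 K k s nd ln)

/-- one step -/
noncomputable def step (K : ℕ) (k : St → Bool) (s : St) : Bool := ndK s.un (step1 K k s) s.nf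

/-- the number of `p`-elements is larger than the order of a Sylow `p`-subgroup -/
noncomputable def nnB (n : ℕ) (cl : List Gp) : Bool :=
  allL [2, 3, 5, 7, 11, 13, 17] fun p => DV(p, n) IMP Nat.ble (Nat.gcd n (Nat.pow p 64))
    (List.rec (motive := fun _ => ℕ) 0
      (fun g _ r => IF Nat.beq g.s p THEN Nat.add (Nat.mul g.m (Nat.div n g.c)) r ELSE r) cl)

noncomputable def fin (ok : ℕ → ℕ → List Gp → Bool) (s : St) : Bool :=
  ndK s.un (fun nd => List.rec (motive := fun _ => Bool)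
    (force s.b fun n => DV(s.L, n) IMP (DV(n, s.Q) IMP
      (((Nat.beq s.nm 0) ORE Nat.ble n s.nm) IMP ((nnB n s.cl) IMP ok n s.cz s.cl)))) (fun _ _ _ => true) nd) s.nf

noncomputable def srch (K : ℕ) (ok : ℕ → ℕ → List Gp → Bool) (f : ℕ) : St → Bool :=
  Nat.rec (motive := fun _ => St → Bool) (fun _ => false)
    (fun _ r s => IF Nat.beq s.sl 0 THEN fin ok s ELSE step K r s) f

noncomputable def hash (s : St) : ℕ :=
  List.rec (motive := fun _ => ℕ) (Nat.add s.R s.cz)
    (fun g _ r => Nat.add (Nat.mul 31 r) (Nat.add (Nat.mul 7 g.c) (Nat.add (Nat.mul 3 g.s) g.m))) s.cl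

/-- the part of the search with `hash % M = r` at the first state with at most `θ` classes left -/
noncomputable def srchG (K θ M r : ℕ) (g : St → Bool) (f : ℕ) : St → Bool :=
  Nat.rec (motive := fun _ => St → Bool) (fun _ => false)
    (fun _ l s => IF Nat.ble s.sl θ THEN ((Nat.beq (Nat.mod (hash s) M) r) IMP g s) ELSE step K l s) f

def st0 (K cm L nm : ℕ) : St := ⟨K - 1, 1, 1, L, 1, 1, 1, cm, cm + 1, nm, 0, [2], [], [], []⟩

end CfsgLib.FewCl
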