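import Mathlib
import Cfsg.Agent.Lib.FewCl.Srch

/-! Simple groups with few conjugacy classes: the loops of the search. -/

set_option autoImplicit false

namespace CfsgLib.FewCl

open CfsgLib.Comput (force force_eq)

theorem if_eq {α : Type} (b : Bool) (x y : α) : (IF b THEN x ELSE y) = if b = true then x else y := by
  cases b <;> rfl

theorem and_iff (x y : Bool) : (x AND y) = true ↔ x = true ∧ y = true := by cases x <;> simp

theorem imp_iff (x y : Bool) : (x IMP y) = true ↔ (x = true → y = true) := by cases x <;> simp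

theorem or_iff (x y : Bool) : (x ORE y) = true ↔ x = true ∨ y = true := by cases x <;> simp

theorem dv_iff (d x : ℕ) : DV(d, x) = true ↔ d ∣ x := by
  rw [Nat.beq_eq, Nat.dvd_iff_mod_eq_zero]; rfl

theorem ble_iff (x y : ℕ) : Nat.ble x y = true ↔ x ≤ y := by rw [Nat.ble_eq]

theorem beq_iff (x y : ℕ) : Nat.beq x y = true ↔ x = y := by rw [Nat.beq_eq]

theorem allL_iff {α : Type} (l : List α) (f : α → Bool) : allL l f = true ↔ ∀ x ∈ l, f x = true := by
  induction l with
  | nil => simp [allL]
  | cons x l ih =>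
    have : allL (x :: l) f = ((f x) AND allL l f) := rfl
    rw [this, and_iff, ih]; simp

theorem memL_iff (x : ℕ) (l : List ℕ) : memL x l = true ↔ x ∈ l := by
  induction l with
  | nil => simp [memL]
  | cons y l ih =>
    have : memL x (y :: l) = ((Nat.beq x y) ORE memL x l) := rfl
    rw [this, or_iff, ih, beq_iff]; simp

theorem allN_of {n : ℕ} {f : ℕ → Bool} (h : allN n f = true) {i : ℕ} (hi : i < n) : f i = true := by
  induction n with
  | zero => omega
  | succ n ih =>
    have e : allN (n + 1) f = ((f n) AND allN n f) := rfl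
    rw [e, and_iff] at h
    rcases Nat.lt_succ_iff_lt_or_eq.1 hi with h1 | rfl
    · exact ih h.2 h1
    · exact h.1

theorem lenL_eq {α : Type} (l : List α) : lenL l = l.length := by
  induction l with
  | nil => rfl
  | cons x l ih => exact congrArg Nat.succ ih

theorem prodL_eq (l : List ℕ) : prodL l = l.prod := by
  induction l with
  | nil => rfl
  | cons x l ih => exact congrArg (x * ·) ih

theorem smo_loop {p : ℕ} {ct r : ℕ → Bool} (fu : ℕ) : ∀ v : ℕ,
    Nat.rec (motive := fun _ => ℕ → Bool) (fun _ => false)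
      (fun _ l v => (ct v) IMP ((r v) AND (force (Nat.mul v p) l))) fu v = true →
    ∀ j, (∀ i ≤ j, ct (v * p ^ i) = true) → r (v * p ^ j) = true := by
  induction fu with
  | zero => intro v h; exact absurd h (by simp)
  | succ fu ih =>
    intro v h j hj
    have h0 := hj 0 (Nat.zero_le _)
    rw [pow_zero, mul_one] at h0
    have h1 := (and_iff _ _).1 ((imp_iff _ _).1 h h0)
    rcases j with _ | j
    · simpa using h1.1
    · have h2 := h1.2
      rw [force_eq] at h2
      have := ih _ h2 j fun i hi => by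
        have := hj (i + 1) (by omega)
        rwa [pow_succ', ← mul_assoc] at this
      rwa [pow_succ', ← mul_assoc]

set_option maxRecDepth 4000 in
theorem smo_of {ct f : ℕ → Bool} {c : ℕ} (hct : ∀ v, v ∣ c → ct v = true) (ps : List ℕ) :
    ∀ v w : ℕ, c = v * w → w ≠ 0 → (∀ r, r.Prime → r ∣ w → r ∈ ps) → smo ps ct f v = true → f c = true := by
  induction ps with
  | nil =>
    intro v w hc _ hr h
    have : w = 1 := by
      by_contra h1
      exact absurd (hr _ (Nat.minFac_prime h1) (Nat.minFac_dvd w)) (by simp)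
    rw [hc, this, mul_one]; exact h
  | cons p ps ih =>
    intro v w hc hw hr h
    obtain ⟨j, w', hw', hp⟩ : ∃ j w', w = p ^ j * w' ∧ (p.Prime → ¬ p ∣ w') := by
      by_cases hp : p.Prime
      · obtain ⟨j, w', h1, h2⟩ := Nat.exists_eq_pow_mul_and_not_dvd hw p hp.ne_one
        exact ⟨j, w', h2, fun _ => h1⟩
      · exact ⟨0, w, by simp, fun h => absurd h hp⟩
    refine ih (v * p ^ j) w' (by rw [hc, hw', mul_assoc]) (by rintro rfl; simp at hw'; exact hw hw')
      (fun r hr1 hr2 => ?_) (smo_loop 100 v h j fun i hi => hct _ ?_)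
    · rcases List.mem_cons.1 (hr r hr1 (hw' ▸ Dvd.dvd.mul_left hr2 _)) with rfl | h
      · exact absurd hr2 (hp hr1)
      · exact h
    · rw [hc, hw']
      exact Nat.mul_dvd_mul_left _ (Dvd.dvd.mul_right (pow_dvd_pow _ hi) _)

theorem allPr_of {x : ℕ} {f : ℕ → Bool} (h : allPr x f = true) {p : ℕ} (hp : p.Prime) (hx : p ≤ x) :
    f p = true := by
  obtain ⟨h1, h2⟩ := (and_iff _ _).1 h
  by_cases h37 : p < 37
  · have key : ∀ l : List ℕ, l.Pairwise (· ≤ ·) → p ∈ l →
        List.rec (motive := fun _ => Bool) true (fun p _ r => (Nat.ble p x) IMP ((f p) AND r)) l = true →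
        f p = true := by
      intro l hl hm h
      induction l with
      | nil => simp at hm
      | cons y l ih =>
        have hy : y ≤ p := by
          rcases List.mem_cons.1 hm with rfl | h
          · exact le_rfl
          · exact List.rel_of_pairwise_cons hl h
        have := (and_iff _ _).1 ((imp_iff _ _).1 h ((ble_iff _ _).2 (hy.trans hx)))
        rcases List.mem_cons.1 hm with rfl | h
        · exact this.1
        · exact ih hl.of_cons h this.2
    refine key [2, 3, 5, 7, 11, 13, 17, 19, 23, 29, 31] (by decide) ?_ h1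
    revert hp
    interval_cases p <;> first | decide | (intro _; decide)
  · obtain ⟨i, hi⟩ : ∃ i, p = 37 + 2 * i := by
      obtain ⟨j, hj⟩ := hp.odd_of_ne_two (by omega)
      exact ⟨j - 18, by omega⟩
    have := allN_of h2 (i := i) (by show i < (x - 35) / 2; omega)
    rw [force_eq, imp_iff, beq_iff] at this
    have e : Nat.add 37 (Nat.mul 2 i) = p := hi.symm
    rw [e] at this
    refine this ((Nat.Prime.coprime_iff_not_dvd hp).2 fun hd => ?_)
    have e2 : (200560490130 : ℕ) = [2, 3, 5, 7, 11, 13, 17, 19, 23, 29, 31].prod := by norm_num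
    rw [e2] at hd
    obtain ⟨y, hy, hd⟩ := (Prime.dvd_prod_iff hp.prime).1 hd
    have := Nat.le_of_dvd (by simp at hy; omega) hd
    simp at hy; omega

theorem allPr2_of {x : ℕ} {f : ℕ → Bool} (h : allPr2 x f = true) {p : ℕ} (hp : p.Prime) (hx : p ≤ x)
    (h2 : p ≤ 31 ∨ p * p ≤ x) : f p = true := by
  unfold allPr2 at h
  rw [if_eq] at h
  split_ifs at h with h1
  · rw [ble_iff] at h1
    refine allPr_of h hp ?_
    rw [if_eq]
    split_ifs with h3
    · exact hx
    · rcases h2 with h2 | h2
      · exact h2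
      · have : p < 37 := by nlinarith
        revert hp
        interval_cases p <;> first | omega | (intro hp; exact absurd hp (by norm_num))
  · rw [ble_iff] at h1
    have k1 : ∀ fu y, (∀ q, q * q ≤ x → q ≤ y) →
        Nat.rec (motive := fun _ => ℕ → Bool) (fun y => allPr y f)
          (fun _ l y => force (Nat.succ (Nat.div (Nat.add y (Nat.div x y)) 2)) l) fu y = true →
        f p = true := by
      intro fu
      induction fu with
      | zero =>
        intro y hy h
        refine allPr_of h hp ?_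
        rcases h2 with h2 | h2
        · have := hy 37 (by omega); omega
        · exact hy p h2
      | succ fu ih =>
        intro y hy h
        have h' : force (Nat.succ (Nat.div (Nat.add y (Nat.div x y)) 2)) _ = true := h
        rw [force_eq] at h'
        refine ih _ (fun q hq => ?_) h'
        show q ≤ (y + x / y) / 2 + 1
        have hy0 : 0 < y := by have := hy 37 (by omega); omega
        have h3 : x < y * (x / y + 1) := by
          have := Nat.div_add_mod x y
          have := Nat.mod_lt x hy0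
          nlinarith
        have h4 : 2 * q < y + x / y + 1 := by
          by_contra h5
          have h6 : (y + x / y + 1) * (y + x / y + 1) ≤ 2 * q * (2 * q) :=
            Nat.mul_le_mul (by omega) (by omega)
          generalize x / y = g at *
          zify at *
          nlinarith [sq_nonneg ((y : ℤ) - g - 1)]
        omega
    have k2 : ∀ fu y, Nat.rec (motive := fun _ => ℕ → Bool) (fun _ => false)
        (fun _ l y => IF Nat.ble (Nat.mul y y) x THEN force (Nat.mul 2 y) l ELSE
          Nat.rec (motive := fun _ => ℕ → Bool) (fun y => allPr y f)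
            (fun _ l y => force (Nat.succ (Nat.div (Nat.add y (Nat.div x y)) 2)) l) 3 y) fu y = true →
        f p = true := by
      intro fu
      induction fu with
      | zero => intro y h; exact absurd h (by simp)
      | succ fu ih =>
        intro y h
        have h' : (IF Nat.ble (Nat.mul y y) x THEN force (Nat.mul 2 y) _ ELSE _) = true := h
        rw [if_eq] at h'
        split_ifs at h' with h3
        · rw [force_eq] at h'; exact ih _ h'
        · rw [ble_iff] at h3
          refine k1 3 y (fun q hq => ?_) h'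
          by_contra h5
          exact h3 (le_trans (Nat.mul_le_mul (by omega) (by omega)) hq)
    exact k2 40 64 h

theorem eraK_eq (x : ℕ) (l : List ℕ) (hl : l.Nodup) : ∃ l' : List ℕ, l'.Nodup ∧
    (∀ y, y ∈ l' ↔ y ∈ l ∧ y ≠ x) ∧ ∀ k, eraK x l k = k l' := by
  have key : ∀ (l u : List ℕ) (k : List ℕ → Bool), List.rec (motive := fun _ => List ℕ → Bool) k
      (fun y _ r u => IF Nat.beq x y THEN r u ELSE r (y :: u)) l u =
      k ((l.filter (· ≠ x)).reverse ++ u) := by
    intro l
    induction l with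
    | nil => intro u k; rfl
    | cons y l ih =>
      intro u k
      show (IF Nat.beq x y THEN _ ELSE _) = _
      rw [if_eq]
      split_ifs with h
      · rw [beq_iff] at h; rw [ih]; simp [← h]
      · rw [beq_iff] at h; rw [ih]; simp [Ne.symm h]
  refine ⟨(l.filter (· ≠ x)).reverse, by simpa using hl.filter _, by simp, fun k => ?_⟩
  exact (key l [] k).trans (by simp)

theorem addK_eq (R r : ℕ) (l : List ℕ) (hl : l.Nodup) : ∃ l' : List ℕ, l'.Nodup ∧
    (∀ y, y ∈ l' ↔ y ∈ l ∨ (y = r ∧ ¬ r ∣ R)) ∧ ∀ k, addK R r l k = k l' := by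
  by_cases h : r ∣ R ∨ r ∈ l
  · refine ⟨l, hl, fun y => ⟨Or.inl, ?_⟩, fun k => ?_⟩
    · rintro (h1 | ⟨rfl, h1⟩)
      · exact h1
      · exact h.resolve_left h1
    · unfold addK
      rw [if_eq, if_pos (by rwa [or_iff, dv_iff, memL_iff])]
  · refine ⟨r :: l, List.nodup_cons.2 ⟨fun h1 => h (Or.inr h1), hl⟩, fun y => ?_, fun k => ?_⟩
    · have : ¬ r ∣ R := fun h1 => h (Or.inl h1)
      simp [this, or_comm]
    · unfold addK
      rw [if_eq, if_neg (by rwa [or_iff, dv_iff, memL_iff])]

theorem addD_eq (e R r : ℕ) (l : List ℕ) (hl : l.Nodup) : ∃ l' : List ℕ, l'.Nodup ∧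
    (∀ y ∈ l, y ∈ l') ∧ (∀ y ∈ l', y ∈ l ∨ (y = r ∧ ¬ r ∣ R ∧ r ∣ e)) ∧ ∀ k, addD e R r l k = k l' := by
  by_cases h : r ∣ e
  · obtain ⟨l', h1, h2, h3⟩ := addK_eq R r l hl
    refine ⟨l', h1, fun y hy => (h2 y).2 (Or.inl hy), fun y hy => ((h2 y).1 hy).imp id
      fun h4 => ⟨h4.1, h4.2, h⟩, fun k => ?_⟩
    unfold addD
    rw [if_eq, if_pos (by rwa [dv_iff]), h3]
  · refine ⟨l, hl, fun _ h => h, fun _ h => Or.inl h, fun k => ?_⟩
    unfold addD
    rw [if_eq, if_neg (by rwa [dv_iff])]

theorem ndK_eq (un : List Ent) : ∀ u : List ℕ, u.Nodup → ∃ l : List ℕ, l.Nodup ∧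
    (∀ y, y ∈ l ↔ y ∈ u ∨ ∃ e ∈ un, e.p = y) ∧ ∀ k, ndK un k u = k l := by
  induction un with
  | nil => exact fun u hu => ⟨u, hu, by simp, fun _ => rfl⟩
  | cons e un ih =>
    intro u hu
    have e0 : ∀ k, ndK (e :: un) k u = (IF memL e.p u THEN ndK un k u ELSE ndK un k (e.p :: u)) :=
      fun _ => rfl
    by_cases h : e.p ∈ u
    · obtain ⟨l, h1, h2, h3⟩ := ih u hu
      refine ⟨l, h1, fun y => ?_, fun k => by rw [e0, if_eq, if_pos (by rwa [memL_iff]), h3]⟩
      rw [h2]
      simp only [List.mem_cons, exists_eq_or_imp]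
      exact ⟨fun h => h.imp id Or.inr, fun h' => h'.elim Or.inl fun h' =>
        h'.elim (fun h' => Or.inl (h' ▸ h)) Or.inr⟩
    · obtain ⟨l, h1, h2, h3⟩ := ih (e.p :: u) (List.nodup_cons.2 ⟨h, hu⟩)
      refine ⟨l, h1, fun y => ?_, fun k => by rw [e0, if_eq, if_neg (by rwa [memL_iff]), h3]⟩
      rw [h2]
      simp only [List.mem_cons, exists_eq_or_imp]
      tauto

theorem cofK_eq (S : ℕ) (un : List Ent) : ∀ u : List ℕ, ∃ l : List ℕ, (∀ y ∈ u, y ∈ l) ∧
    (∀ e ∈ un, e.p = S → e.q ∈ l) ∧ ∀ k, cofK S un k u = k l := by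
  induction un with
  | nil => exact fun u => ⟨u, fun _ h => h, by simp, fun _ => rfl⟩
  | cons e un ih =>
    intro u
    have e0 : ∀ k, cofK S (e :: un) k u = (IF Nat.beq e.p S THEN (IF memL e.q u THEN cofK S un k u
      ELSE cofK S un k (e.q :: u)) ELSE cofK S un k u) := fun _ => rfl
    by_cases h : e.p = S ∧ e.q ∉ u
    · obtain ⟨l, h1, h2, h3⟩ := ih (e.q :: u)
      refine ⟨l, fun y hy => h1 y (List.mem_cons_of_mem _ hy), ?_, fun k => by
        rw [e0, if_eq, if_pos (by rw [beq_iff]; exact h.1), if_eq, if_neg (by rw [memL_iff]; exact h.2), h3]⟩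
      simp only [List.mem_cons, forall_eq_or_imp]
      exact ⟨fun _ => h1 _ List.mem_cons_self, h2⟩
    · obtain ⟨l, h1, h2, h3⟩ := ih u
      refine ⟨l, h1, ?_, fun k => ?_⟩
      · simp only [List.mem_cons, forall_eq_or_imp]
        exact ⟨fun h4 => h1 _ (by by_contra h5; exact h ⟨h4, h5⟩), h2⟩
      · rw [e0, if_eq]
        split_ifs with h4
        · rw [if_eq, if_pos (by
            rw [memL_iff]; by_contra h5; exact h ⟨(beq_iff _ _).1 h4, h5⟩), h3]
        · exact h3 k

theorem cofF_eq (S C : ℕ) (un : List Ent) (hC : ∀ e ∈ un, e.p = S → e.c ∣ C) : ∀ (v : ℕ) (u : List ℕ),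
    v ∣ C → ∃ (v' : ℕ) (l : List ℕ), v' ∣ C ∧ v ∣ v' ∧ (∀ y ∈ u, y ∈ l) ∧
    (∀ e ∈ un, e.p = S → e.c ∣ v' ∧ (e.q * e.q ∣ e.c → e.q ∈ l)) ∧ ∀ k, cofF S un k v u = k v' l := by
  induction un with
  | nil => exact fun v u hv => ⟨v, u, hv, dvd_rfl, fun _ h => h, by simp, fun _ => rfl⟩
  | cons e un ih =>
    intro v u hv
    have ih := ih fun e he => hC e (List.mem_cons_of_mem _ he)
    have e0 : ∀ k, cofF S (e :: un) k v u = (IF Nat.beq e.p S THEN
      force (Nat.lcm v e.c) (cofF1 e (cofF S un k) u) ELSE cofF S un k v u) := fun _ => rfl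
    by_cases h : e.p = S
    · have hv' : Nat.lcm v e.c ∣ C := Nat.lcm_dvd hv (hC e List.mem_cons_self h)
      by_cases h' : e.q * e.q ∣ e.c ∧ e.q ∉ u
      · obtain ⟨v', l, h1, h2, h3, h4, h5⟩ := ih _ (e.q :: u) hv'
        refine ⟨v', l, h1, (Nat.dvd_lcm_left _ _).trans h2, fun y hy => h3 y (List.mem_cons_of_mem _ hy),
          ?_, fun k => ?_⟩
        · simp only [List.mem_cons, forall_eq_or_imp]
          exact ⟨fun _ => ⟨(Nat.dvd_lcm_right _ _).trans h2, fun _ => h3 _ List.mem_cons_self⟩, h4⟩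
        · rw [e0, if_eq, if_pos (by rwa [beq_iff]), force_eq, cofF1, if_eq,
            if_pos (by rw [dv_iff]; exact h'.1), if_eq, if_neg (by rw [memL_iff]; exact h'.2), h5]
      · obtain ⟨v', l, h1, h2, h3, h4, h5⟩ := ih _ u hv'
        refine ⟨v', l, h1, (Nat.dvd_lcm_left _ _).trans h2, h3, ?_, fun k => ?_⟩
        · simp only [List.mem_cons, forall_eq_or_imp]
          exact ⟨fun _ => ⟨(Nat.dvd_lcm_right _ _).trans h2, fun h6 => h3 _ (by
            by_contra h7; exact h' ⟨h6, h7⟩)⟩, h4⟩
        · rw [e0, if_eq, if_pos (by rwa [beq_iff]), force_eq, cofF1, if_eq]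
          split_ifs with h6
          · rw [if_eq, if_pos (by
              rw [memL_iff]; by_contra h7; exact h' ⟨(dv_iff _ _).1 h6, h7⟩), h5]
          · exact h5 k
    · obtain ⟨v', l, h1, h2, h3, h4, h5⟩ := ih v u hv
      refine ⟨v', l, h1, h2, h3, ?_, fun k => by rw [e0, if_eq, if_neg (by rwa [beq_iff]), h5]⟩
      simp only [List.mem_cons, forall_eq_or_imp]
      exact ⟨fun h6 => absurd h6 h, h4⟩

theorem allM1_of {b mx ac : ℕ} {f : ℕ → Bool} (h : allM1 b mx f ac = true) {m : ℕ} (h1 : 1 ≤ m)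
    (h2 : m ≤ mx) (h3 : m * b < ac) : f m = true := by
  have key : ∀ fu i, Nat.rec (motive := fun _ => ℕ → Bool) (fun _ => true)
      (fun _ l m => (Nat.ble (Nat.succ (Nat.mul m b)) ac) IMP ((f m) AND force (Nat.succ m) l)) fu i = true →
      i ≤ m → m < i + fu → f m = true := by
    intro fu
    induction fu with
    | zero => intro i _ _ _; omega
    | succ fu ih =>
      intro i h hi hi'
      have := (and_iff _ _).1 ((imp_iff _ _).1 h ((ble_iff _ _).2
        (Nat.succ_le_of_lt (lt_of_le_of_lt (Nat.mul_le_mul_right b hi) h3))))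
      rcases hi.eq_or_lt with rfl | hi
      · exact this.1
      · have h4 := this.2
        rw [force_eq] at h4
        exact ih _ h4 hi (by simp only [Nat.succ_eq_add_one]; omega)
  exact key mx 1 h h1 (by omega)

theorem minF_of {c S : ℕ} {f : ℕ → Bool} (h : minF c f = true) (hS : S.Prime) (hc : S ∣ c) (h0 : c ≠ 0)
    (h1 : ∀ r, r.Prime → r ∣ c → r = S) : f S = true := by
  have key : ∀ fu p, Nat.rec (motive := fun _ => ℕ → Bool) (fun _ => false)
      (fun _ l p => IF DV(p, c) THEN f p ELSE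
        (IF Nat.ble (Nat.mul p p) c THEN force (Nat.succ p) l ELSE f c)) fu p = true →
      2 ≤ p → p ≤ S → f S = true := by
    intro fu
    induction fu with
    | zero => intro p h; exact absurd h (by simp)
    | succ fu ih =>
      intro p h h2 h3
      have h' : (IF DV(p, c) THEN f p ELSE (IF Nat.ble (Nat.mul p p) c THEN force (Nat.succ p) _
        ELSE f c)) = true := h
      rw [if_eq] at h'
      split_ifs at h' with h4
      · rw [dv_iff] at h4
        have h5 := h1 _ (Nat.minFac_prime (n := p) (by omega)) ((Nat.minFac_dvd p).trans h4)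
        have h6 := Nat.minFac_le (n := p) (by omega)
        rwa [show S = p by omega]
      · rw [dv_iff] at h4
        have h5 : p < S := lt_of_le_of_ne h3 (by rintro rfl; exact h4 hc)
        rw [if_eq] at h'
        split_ifs at h' with h6
        · rw [force_eq] at h'
          exact ih _ h' (by simp only [Nat.succ_eq_add_one]; omega) h5
        · rw [ble_iff] at h6
          obtain ⟨w, rfl⟩ := hc
          have : w = 1 := by
            by_contra h7
            have h8 := h1 _ (Nat.minFac_prime h7) (Dvd.dvd.mul_left (Nat.minFac_dvd w) _)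
            have h9 := Nat.minFac_le (n := w) (Nat.pos_of_ne_zero (by rintro rfl; simp at h0))
            exact h6 (Nat.mul_le_mul (by omega) (by omega))
          rwa [this, mul_one] at h'
  unfold minF at h
  exact key 20000 2 h le_rfl hS.two_le

theorem dvd_prod_pow {c : ℕ} {ps : List ℕ} (h0 : c ≠ 0) (hc : c ≤ 18446744073709551615)
    (h : ∀ r, r.Prime → r ∣ c → r ∈ ps) : c ∣ ps.prod ^ 64 := by
  rw [Nat.dvd_iff_prime_pow_dvd_dvd]
  intro r a hr ha
  rcases Nat.eq_zero_or_pos a with rfl | h1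
  · simp
  have h2 : a ≤ 64 := by
    by_contra h3
    have h4 : 2 ^ 64 ≤ r ^ a := (Nat.pow_le_pow_left hr.two_le _).trans
      (Nat.pow_le_pow_right hr.pos (by omega))
    have := Nat.le_of_dvd (Nat.pos_of_ne_zero h0) ha
    omega
  exact (pow_dvd_pow r h2).trans (pow_dvd_pow_of_dvd
    (List.dvd_prod (h r hr ((dvd_pow_self r h1.ne').trans ha))) _)

theorem qr_ok {n Q R x : ℕ} (hn : n ≠ 0) (h : ∀ p, p.Prime → p ∣ R → ∀ j, p ^ j ∣ n → p ^ j ∣ Q)
    (hx : x ∣ n) : Nat.beq (Nat.gcd (Nat.div x (Nat.gcd x Q)) R) 1 = true := by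
  rw [beq_iff]
  refine Nat.Coprime.symm (Nat.coprime_of_dvd fun p hp h1 h2 => ?_)
  have hx0 : x ≠ 0 := by rintro rfl; exact hn (zero_dvd_iff.1 hx)
  obtain ⟨j, y, h3, h4⟩ := Nat.exists_eq_pow_mul_and_not_dvd hx0 p hp.ne_one
  have h5 : p ^ j ∣ Nat.gcd x Q := Nat.dvd_gcd ⟨y, h4⟩ (h p hp h1 j (Dvd.dvd.trans ⟨y, h4⟩ hx))
  have h6 : Nat.gcd x Q * (x / Nat.gcd x Q) = x := Nat.mul_div_cancel' (Nat.gcd_dvd_left _ _)
  have h7 : p ^ j * p ∣ p ^ j * y := by rw [← h4, ← h6]; exact Nat.mul_dvd_mul h5 h2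
  exact h3 (Nat.dvd_of_mul_dvd_mul_left (pow_pos hp.pos j) h7)

end CfsgLib.FewCl
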