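import Mathlib
import Cfsg.Agent.Lib.FewCl.Loop

/-! Simple groups with few conjugacy classes: the numerical model and the invariants of the search. -/

set_option autoImplicit false

namespace CfsgLib.FewCl

open Finset CfsgLib.Comput
open scoped _root_.Classical

/-- The numerical data of the non-identity classes: radical of the element order, centraliser order,
`p`-parts and `p`-central classes. -/
structure Model (ι : Type*) [Fintype ι] (K n cm : ℕ) where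
  s : ι → ℕ
  c : ι → ℕ
  pt : ι → ℕ → ι
  z : ℕ → ι
  card : Fintype.card ι + 1 = K
  npos : n ≠ 0
  sum : ∑ i, n / c i + 1 = n
  dvd : ∀ i, c i ∣ n
  cmin : ∀ i, cm ≤ c i
  five : ∀ i, 5 * c i ≤ n
  sdvd : ∀ i, s i ∣ c i
  typ : ∀ i, (s i).Prime ∨ ∃ p q, p.Prime ∧ q.Prime ∧ p < q ∧ s i = p * q
  pts : ∀ i p q, p.Prime → q.Prime → p ≠ q → s i = p * q →
    s (pt i p) = p ∧ c i ∣ c (pt i p) ∧ (q * q ∣ c (pt i p) → q * q ∣ c i)
  comp : ∀ i r, ¬ (s i).Prime → r.Prime → r ∣ c i → r ∣ s i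
  wit : ∀ u q, (s u).Prime → q.Prime → q ≠ s u → q ∣ c u → ∃ j, s j = s u * q ∧ pt j (s u) = u
  frob : ∀ u q a, (s u).Prime → q.Prime → q ≠ s u → q ^ a ∣ c u → ¬ q ∣ c u / q ^ a →
    q ^ a ∣ 1 + ∑ j with s j = s u * q ∧ pt j (s u) = u, c u / c j
  bnd : ∀ u, (s u).Prime →
    (1 + ∑ j with (∃ q, q.Prime ∧ q ≠ s u ∧ s j = s u * q) ∧ pt j (s u) = u, c u / c j) * s u ≤ c u
  zs : ∀ p, p.Prime → p ∣ n → s (z p) = p ∧ ∀ a, p ^ a ∣ n → p ^ a ∣ c (z p)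
  bf : n ≤ c (z 2) * (c (z 2) * (K - 1) + 1)
  two : 2 ∣ n
  one : ∀ i, (s i).Prime → ¬ s i * s i ∣ c i → (∀ j, s j = s i → c j = c i) ∧
    ∃ e, #{j | s j = s i} * e + 1 = s i ∧ 2 ≤ e ∧ e + #{j | s j = s i} ≤ K ∧ c i * e ∣ n
  nn : ∀ p a, p.Prime → p ∣ n → p ^ a ∣ n → p ^ a ≤ ∑ j with s j = p, n / c j

variable {ι : Type*} [Fintype ι] {K n cm : ℕ} (M : Model ι K n cm)

namespace Model

theorem c_pos (i : ι) : 0 < M.c i := Nat.pos_of_dvd_of_pos (M.dvd i) (Nat.pos_of_ne_zero M.npos)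

/-- the classes after the key `(lc, ls)` -/
noncomputable def rest (lc ls : ℕ) : Finset ι := {i | lc < M.c i ∨ (M.c i = lc ∧ M.s i < ls)}

noncomputable def grp (S C : ℕ) : Finset ι := {i | M.s i = S ∧ M.c i = C}

/-- the classes belonging to a waiting entry -/
noncomputable def pe (T : Finset ι) (e : Ent) : Finset ι :=
  {j | M.s j = e.p * e.q ∧ M.c j = e.c ∧ M.pt j e.p ∈ T}

variable {M}

theorem mem_rest {lc ls : ℕ} {i : ι} : i ∈ M.rest lc ls ↔ lc < M.c i ∨ (M.c i = lc ∧ M.s i < ls) := by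
  simp [rest]

theorem mem_grp {S C : ℕ} {i : ι} : i ∈ M.grp S C ↔ M.s i = S ∧ M.c i = C := by simp [grp]

theorem mem_pe {T : Finset ι} {e : Ent} {j : ι} :
    j ∈ M.pe T e ↔ M.s j = e.p * e.q ∧ M.c j = e.c ∧ M.pt j e.p ∈ T := by simp [pe]

end Model

open Model

def Ent.key (e : Ent) : ℕ × ℕ × ℕ := (e.p, e.q, e.c)

structure InvU (T : Finset ι) (un : List Ent) : Prop where
  un1 : ∀ e ∈ un, e.p.Prime ∧ e.q.Prime ∧ e.p ≠ e.q ∧ e.m = #(M.pe T e) ∧ 0 < e.m ∧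
    ∀ j, M.s j = e.p * e.q → M.c j = e.c → j ∉ T
  un2 : (un.map Ent.key).Nodup
  un3 : ∀ j ∉ T, ∀ p q, p.Prime → q.Prime → p ≠ q → M.s j = p * q → M.pt j p ∈ T →
    ∃ e ∈ un, e.p = p ∧ e.q = q ∧ e.c = M.c j

structure InvF (T : Finset ι) (Q R R1 nm cz : ℕ) (nf fl : List ℕ) : Prop where
  hQ : ∀ p, p.Prime → p ∣ R → ∀ j, p ^ j ∣ n → p ^ j ∣ Q
  hZ : ∀ p, p.Prime → p ∣ n → (M.z p ∉ T ↔ p ∣ R)
  hR1 : ∀ p, p.Prime → p ∣ R1 → ∀ i ∈ T, M.s i ≠ p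
  hnm : nm = 0 ∨ n ≤ nm
  hcz : M.z 2 ∉ T → cz = M.c (M.z 2)
  nf1 : ∀ p ∈ nf, p.Prime ∧ p ∣ n ∧ ¬ p ∣ R
  nf2 : nf.Nodup
  kn : ∀ j ∉ T, ∀ r, r.Prime → r ∣ M.c j → r ∣ R ∨ r ∈ nf
  hfl : ∀ r, r.Prime → r ∣ R → r ∣ R1 ∨ r ∈ fl

structure InvC (T : Finset ι) (cl : List Gp) : Prop where
  cl1 : ∀ g ∈ cl, g.m = #(M.grp g.s g.c) ∧ 0 < g.m
  cl2 : ∀ j ∉ T, ∃ g ∈ cl, g.s = M.s j ∧ g.c = M.c j

structure Inv (s : St) : Prop where
  sl : s.sl = #(M.rest s.lc s.ls)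
  ab : s.a * n = s.b * (∑ i ∈ M.rest s.lc s.ls, n / M.c i + 1)
  cop : s.a.Coprime s.b
  bpos : 0 < s.b
  hL : s.L ∣ n
  bp : ∀ r, r.Prime → r ∣ s.b → ∃ j ∉ M.rest s.lc s.ls, r ∣ M.c j
  U : InvU M (M.rest s.lc s.ls) s.un
  F : InvF M (M.rest s.lc s.ls) s.Q s.R s.R1 s.nm s.cz s.nf s.fl
  C : InvC M (M.rest s.lc s.ls) s.cl

/-- `(S, C)` is the next key -/
structure Nx (T : Finset ι) (S C : ℕ) : Prop where
  ne : (M.grp S C).Nonempty
  eq : ∀ i, i ∈ T ↔ i ∈ M.grp S C ∨ i ∈ M.rest C S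

/-- the function `F` calls its continuation at a correct state -/
def Gd (sl : ℕ) (F : (St → Bool) → Bool) : Prop :=
  ∃ s', Inv M s' ∧ s'.sl < sl ∧ ∀ k, F k = true → k s' = true

variable {M}

theorem Gd.mono {sl : ℕ} {F F' : (St → Bool) → Bool} (h : Gd M sl F')
    (h' : ∀ k, F k = true → F' k = true) : Gd M sl F := by
  obtain ⟨s', h1, h2, h3⟩ := h
  exact ⟨s', h1, h2, fun k hk => h3 k (h' k hk)⟩

theorem exists_nx {lc ls : ℕ} (h : (M.rest lc ls).Nonempty) : ∃ S C, Nx M (M.rest lc ls) S C := by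
  obtain ⟨i, hi, h1⟩ := exists_min_image _ M.c h
  obtain ⟨j, hj, h2⟩ := exists_max_image ({x ∈ M.rest lc ls | M.c x = M.c i}) M.s ⟨i, by simp [hi]⟩
  simp only [mem_filter, and_imp] at hj h2
  refine ⟨M.s j, M.c i, ⟨j, mem_grp.2 ⟨rfl, hj.2⟩⟩, fun x => ⟨fun hx => ?_, fun hx => ?_⟩⟩
  · have := h1 x hx
    have := h2 x hx
    rw [mem_grp, mem_rest]; omega
  · have := mem_rest.1 hj.1
    have := hj.2
    rw [mem_grp, mem_rest] at hx
    rw [mem_rest]; omega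

namespace Nx

variable {T : Finset ι} {S C : ℕ} (h : Nx M T S C)
include h

omit h in
theorem not_rest {i : ι} (hi : i ∈ M.grp S C) : i ∉ M.rest C S := by
  rw [mem_grp] at hi; rw [mem_rest]; omega

theorem sub {i : ι} (hi : i ∈ M.grp S C) : i ∈ T := (h.eq i).2 (Or.inl hi)

theorem sub' {i : ι} (hi : i ∈ M.rest C S) : i ∈ T := (h.eq i).2 (Or.inr hi)

theorem of_ne {i : ι} (hi : i ∈ T) (h' : M.s i ≠ S) : i ∈ M.rest C S :=
  ((h.eq i).1 hi).resolve_left fun h1 => h' (mem_grp.1 h1).1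

theorem cases {i : ι} (hi : i ∉ M.rest C S) : i ∉ T ∨ i ∈ M.grp S C := by
  by_cases h1 : i ∈ T
  · exact Or.inr (((h.eq i).1 h1).resolve_right hi)
  · exact Or.inl h1

theorem eq_union : T = M.grp S C ∪ M.rest C S := by ext i; rw [mem_union, h.eq]

omit h in
theorem disj : Disjoint (M.grp S C) (M.rest C S) := disjoint_left.2 fun _ hi => not_rest hi

theorem card_eq : #T = #(M.grp S C) + #(M.rest C S) := by
  rw [h.eq_union, card_union_of_disjoint disj]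

theorem sum_eq : ∑ i ∈ T, n / M.c i = #(M.grp S C) * (n / C) + ∑ i ∈ M.rest C S, n / M.c i := by
  rw [h.eq_union, sum_union disj, sum_congr rfl fun i hi => by rw [(mem_grp.1 hi).2], sum_const,
    smul_eq_mul]

theorem le {i : ι} (hi : i ∈ T) : C ≤ M.c i := by
  have := (h.eq i).1 hi
  rw [mem_grp, mem_rest] at this; omega

theorem dvd : C ∣ n := by obtain ⟨i, hi⟩ := h.ne; exact (mem_grp.1 hi).2 ▸ M.dvd i

theorem sdvd : S ∣ C := by
  obtain ⟨i, hi⟩ := h.ne; rw [← (mem_grp.1 hi).1, ← (mem_grp.1 hi).2]; exact M.sdvd i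

theorem pos : 0 < C := Nat.pos_of_dvd_of_pos h.dvd (Nat.pos_of_ne_zero M.npos)

theorem m_pos : 0 < #(M.grp S C) := h.ne.card_pos

/-- a class with a part in the new group is already treated -/
theorem done {j : ι} {q : ℕ} (hS : S.Prime) (hq : q.Prime) (hne : q ≠ S) (hj : M.s j = S * q)
    (hp : M.pt j S ∈ M.grp S C) : j ∉ T := by
  intro h1
  have h2 := (M.pts j S q hS hq hne.symm hj).2.1
  rw [(mem_grp.1 hp).2] at h2
  have h3 := Nat.le_of_dvd h.pos h2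
  have h4 : S < S * q := lt_mul_of_one_lt_right hS.pos hq.one_lt
  have := (h.eq j).1 h1
  rw [mem_grp, mem_rest] at this; omega

/-- the primes dividing the new centraliser order -/
theorem primes {un : List Ent} (U : InvU M T un) (hS : S.Prime) {r : ℕ} (hr : r.Prime) (hd : r ∣ C) :
    r = S ∨ ∃ e ∈ un, e.p = S ∧ e.q = r ∧ ∃ j ∉ T, r ∣ M.c j := by
  by_cases h1 : r = S
  · exact Or.inl h1
  obtain ⟨u, hu⟩ := h.ne
  obtain ⟨h2, h3⟩ := mem_grp.1 hu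
  obtain ⟨j, h4, h5⟩ := M.wit u r (h2 ▸ hS) hr (h2 ▸ h1) (h3 ▸ hd)
  rw [h2] at h4 h5
  have h6 := h.done hS hr h1 h4 (h5 ▸ hu)
  obtain ⟨e, he, h7, h8, -⟩ := U.un3 j h6 S r hS hr (Ne.symm h1) h4 (h5 ▸ h.sub hu)
  exact Or.inr ⟨e, he, h7, h8, j, h6, (Dvd.intro_left _ h4.symm).trans (M.sdvd j)⟩

end Nx

theorem length_le {T : Finset ι} {l : List ℕ} (hl : l.Nodup) (h : ∀ d ∈ l, ∃ i ∈ T, M.s i = d) :
    l.length ≤ #T := by
  rw [← List.toFinset_card_of_nodup hl]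
  refine card_le_card_of_surjOn M.s fun d hd => ?_
  obtain ⟨i, hi, h1⟩ := h d (by simpa using hd)
  exact ⟨i, hi, h1⟩

theorem Inv.apos {s : St} (h : Inv M s) : 0 < s.a := by
  refine Nat.pos_of_ne_zero fun h0 => ?_
  have := h.ab
  rw [h0, zero_mul] at this
  exact absurd this.symm (Nat.mul_pos h.bpos (Nat.succ_pos _)).ne'

theorem Inv.lt {s : St} (h : Inv M s) {S C : ℕ} (N : Nx M (M.rest s.lc s.ls) S C) :
    #(M.grp S C) * s.b < s.a * C := by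
  obtain ⟨t, ht⟩ := N.dvd
  have h1 := h.ab
  have h2 : n / C = t := by rw [ht, Nat.mul_div_cancel_left _ N.pos]
  rw [N.sum_eq, h2] at h1
  have h3 : 0 < t := Nat.pos_of_ne_zero fun h0 => M.npos (by rw [ht, h0, mul_zero])
  refine Nat.lt_of_mul_lt_mul_right (a := t) ?_
  rw [mul_assoc s.a, ← ht, h1]
  generalize ∑ i ∈ M.rest C S, n / M.c i = X
  nlinarith [h.bpos, Nat.zero_le (s.b * X)]

theorem fin2_gd {s : St} (h : Inv M s) {S C : ℕ} (N : Nx M (M.rest s.lc s.ls) S C) {add Q R R1 nm cz : ℕ}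
    {nf fl : List ℕ} {un : List Ent} (ha : add ∣ n) (U : InvU M (M.rest C S) un)
    (F : InvF M (M.rest C S) Q R R1 nm cz nf fl) :
    Gd M s.sl fun k => fin2 k s S C #(M.grp S C) add Q R R1 nm cz fl un nf := by
  set m := #(M.grp S C) with hm
  have hlt := h.lt N
  have hL : Nat.lcm s.L add ∣ n := Nat.lcm_dvd h.hL ha
  have hX : 0 < s.a * C - m * s.b := Nat.sub_pos_of_lt hlt
  have hg : 0 < Nat.gcd (s.a * C - m * s.b) (s.b * C) := Nat.gcd_pos_of_pos_left _ hX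
  have hbC : 0 < s.b * C := Nat.mul_pos h.bpos N.pos
  refine ⟨⟨s.sl - m, nwA s.a s.b C m, nwB s.a s.b C m, Nat.lcm s.L add, Q, R, R1, C, S, nm, cz, nf, fl, un,
    ⟨S, C, m⟩ :: s.cl⟩, ⟨?_, ?_, Nat.coprime_div_gcd_div_gcd hg, ?_, hL, ?_, U, F, ?_, ?_⟩, ?_, fun k hk => ?_⟩
  · show s.sl - m = _
    rw [h.sl, N.card_eq]; simp [hm]
  · show (s.a * C - m * s.b) / Nat.gcd (s.a * C - m * s.b) (s.b * C) * n =
      s.b * C / Nat.gcd (s.a * C - m * s.b) (s.b * C) * _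
    refine Nat.eq_of_mul_eq_mul_left hg ?_
    rw [← mul_assoc, ← mul_assoc, Nat.mul_div_cancel' (Nat.gcd_dvd_left _ _),
      Nat.mul_div_cancel' (Nat.gcd_dvd_right _ _)]
    obtain ⟨t, ht⟩ := N.dvd
    have h1 := h.ab
    have h2 : n / C = t := by rw [ht, Nat.mul_div_cancel_left _ N.pos]
    rw [N.sum_eq, h2, ← hm] at h1
    show _ = s.b * C * (∑ i ∈ M.rest C S, n / M.c i + 1)
    generalize ∑ i ∈ M.rest C S, n / M.c i = X at *
    have hle : m * s.b ≤ s.a * C := hlt.le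
    zify [hle] at h1 ht ⊢
    linear_combination (C : ℤ) * h1 - (m : ℤ) * s.b * ht
  · exact Nat.div_pos (Nat.le_of_dvd hbC (Nat.gcd_dvd_right _ _)) hg
  · intro r hr hd
    have : r ∣ s.b * C := hd.trans (Nat.div_dvd_of_dvd (Nat.gcd_dvd_right _ _))
    rcases (Nat.Prime.dvd_mul hr).1 this with h1 | h1
    · obtain ⟨j, h2, h3⟩ := h.bp r hr h1
      exact ⟨j, fun h4 => h2 (N.sub' h4), h3⟩
    · obtain ⟨i, hi⟩ := N.ne
      exact ⟨i, Nx.not_rest hi, (mem_grp.1 hi).2 ▸ h1⟩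
  · intro g hg
    rcases List.mem_cons.1 hg with rfl | hg
    · exact ⟨rfl, N.m_pos⟩
    · exact h.C.cl1 g hg
  · intro j hj
    rcases N.cases hj with h1 | h1
    · obtain ⟨g, h2, h3⟩ := h.C.cl2 j h1
      exact ⟨g, List.mem_cons_of_mem _ h2, h3⟩
    · exact ⟨_, List.mem_cons_self, (mem_grp.1 h1).1.symm, (mem_grp.1 h1).2.symm⟩
  · show s.sl - m < s.sl
    have := N.m_pos
    have := N.card_eq
    have := h.sl
    omega
  · simp only [fin2, fin3, force_eq, imp_iff] at hk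
    exact hk (qr_ok M.npos F.hQ hL)

end CfsgLib.FewCl
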