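import Mathlib
import Cfsg.Agent.Lib.FewCl.Model

/-! Simple groups with few conjugacy classes: distributing the waiting entries. -/

set_option autoImplicit false

namespace CfsgLib.FewCl

open Finset CfsgLib.Comput Model
open scoped _root_.Classical

variable {ι : Type*} [Fintype ι] {K n cm : ℕ} (M : Model ι K n cm)

/-- the classes of an entry whose part lies in the new group -/
noncomputable def fe (S C : ℕ) (e : Ent) : Finset ι := M.pe (M.grp S C) e

noncomputable def upd (S C : ℕ) (e : Ent) : Ent := ⟨e.p, e.q, e.c, e.m - #(fe M S C e)⟩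

noncomputable def ac (S C : ℕ) (e : Ent) : ℕ × ℕ × ℕ := (e.q, #(fe M S C e), #(fe M S C e) * (C / e.c))

variable {M} {T : Finset ι} {S C : ℕ} {un : List Ent}

theorem Nx.card_pe (N : Nx M T S C) (e : Ent) : #(M.pe T e) = #(fe M S C e) + #(M.pe (M.rest C S) e) := by
  rw [fe, ← card_union_of_disjoint (disjoint_left.2 fun j h1 h2 =>
    Nx.not_rest (mem_pe.1 h1).2.2 (mem_pe.1 h2).2.2)]
  congr 1
  ext j
  simp only [mem_union, mem_pe, N.eq]
  tauto

theorem InvU.fe_cand (U : InvU M T un) {e : Ent} (he : e ∈ un) (h : #(fe M S C e) ≠ 0) :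
    e.p = S ∧ e.c ∣ C ∧ (e.q * e.q ∣ C → e.q * e.q ∣ e.c) := by
  obtain ⟨j, hj⟩ := card_ne_zero.1 h
  obtain ⟨h1, h2, h3⟩ := mem_pe.1 hj
  obtain ⟨hp, hq, hne, -⟩ := U.un1 e he
  have := M.pts j _ _ hp hq hne h1
  rw [(mem_grp.1 h3).2, (mem_grp.1 h3).1, h2] at this
  exact ⟨this.1.symm, this.2⟩

theorem InvU.fe_full (U : InvU M T un) (N : Nx M T S C) (hf : ∀ i ∈ M.rest C S, M.s i ≠ S) {e : Ent}
    (he : e ∈ un) (h : e.p = S) : #(fe M S C e) = e.m := by
  obtain ⟨hp, hq, hne, h1, -⟩ := U.un1 e he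
  rw [h1, N.card_pe, card_eq_zero.2 (eq_empty_of_forall_notMem (s := M.pe (M.rest C S) e) fun j hj => ?_), add_zero]
  obtain ⟨h2, -, h3⟩ := mem_pe.1 hj
  exact hf _ h3 ((M.pts j _ _ hp hq hne h2).1.trans h)

theorem dist_eq (U : InvU M T un) (N : Nx M T S C) {fu : Bool}
    (hf : fu = true → ∀ i ∈ M.rest C S, M.s i ≠ S) (l : List Ent) (hl : ∀ e ∈ l, e ∈ un) :
    ∀ (acc : Acc) (u : List Ent), ∃ (acc' : Acc) (u' : List Ent),
      acc'.Perm ((l.filter (·.p = S)).map (ac M S C) ++ acc) ∧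
      u'.Perm ((l.filter fun e => #(fe M S C e) ≠ e.m).map (upd M S C) ++ u) ∧
      ∀ k, dist fu S C l k acc u = true → k acc' u' = true := by
  induction l with
  | nil => exact fun acc u => ⟨acc, u, by simp, by simp, fun _ h => h⟩
  | cons e l ih =>
    intro acc u
    have ih := ih fun e he => hl e (List.mem_cons_of_mem _ he)
    have he := hl e List.mem_cons_self
    have e0 : ∀ k, dist fu S C (e :: l) k acc u = (IF Nat.beq e.p S THEN dist1 fu C e (dist fu S C l k) acc u
      ELSE dist fu S C l k acc (e :: u)) := fun _ => rfl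
    obtain ⟨-, -, -, hm, hm0, -⟩ := U.un1 e he
    have hle : #(fe M S C e) ≤ e.m := by rw [hm, N.card_pe]; omega
    have hz : #(fe M S C e) = 0 → upd M S C e = e := fun h => by simp [upd, h]
    by_cases hp : e.p = S
    · by_cases ht : #(fe M S C e) = e.m
      · obtain ⟨acc', u', h1, h2, h3⟩ := ih (ac M S C e :: acc) u
        refine ⟨acc', u', h1.trans ?_, by simpa [ht] using h2, fun k hk => h3 k ?_⟩
        · simp only [List.filter_cons, hp, decide_true, if_true, List.map_cons, List.cons_append]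
          exact List.perm_middle
        · have hc := U.fe_cand he (S := S) (C := C) (by omega)
          rw [e0, if_eq, if_pos (by rwa [beq_iff]), dist1, if_eq, if_pos (by
            rw [and_iff, imp_iff, dv_iff, dv_iff, dv_iff]; exact hc.2), force_eq, dist2, and_iff] at hk
          rw [ac, ht]; exact hk.1
      · obtain ⟨acc', u', h1, h2, h3⟩ := ih (ac M S C e :: acc) (upd M S C e :: u)
        refine ⟨acc', u', h1.trans ?_, h2.trans ?_, fun k hk => h3 k ?_⟩
        · simp only [List.filter_cons, hp, decide_true, if_true, List.map_cons, List.cons_append]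
          exact List.perm_middle
        · simp only [List.filter_cons, ht, ne_eq, not_false_eq_true, decide_true, if_true, List.map_cons,
            List.cons_append]
          exact List.perm_middle
        · have hfu : ¬ fu = true := fun h => ht (U.fe_full N (hf h) he hp)
          rw [e0, if_eq, if_pos (by rwa [beq_iff]), dist1, if_eq] at hk
          split_ifs at hk with hc
          · rw [force_eq, dist2, and_iff, or_iff] at hk
            have := allN_of (hk.2.resolve_left hfu) (lt_of_le_of_ne hle ht)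
            rwa [dist3, force_eq] at this
          · have h0 : #(fe M S C e) = 0 := by
              by_contra h0
              exact hc (by rw [and_iff, imp_iff, dv_iff, dv_iff, dv_iff]; exact (U.fe_cand he h0).2)
            rw [or_iff] at hk
            rw [hz h0, ac, h0, zero_mul]
            exact hk.resolve_left hfu
    · have h0 : #(fe M S C e) = 0 := by
        by_contra h0
        exact hp (U.fe_cand he h0).1
      obtain ⟨acc', u', h1, h2, h3⟩ := ih acc (e :: u)
      refine ⟨acc', u', by simpa [hp] using h1, h2.trans ?_, fun k hk => h3 k ?_⟩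
      · have : #(fe M S C e) ≠ e.m := by omega
        simp only [List.filter_cons, this, ne_eq, not_false_eq_true, decide_true, if_true, List.map_cons,
          List.cons_append, hz h0]
        exact List.perm_middle
      · rwa [e0, if_eq, if_neg (by rwa [beq_iff])] at hk

theorem InvU.upd (U : InvU M T un) (N : Nx M T S C) (hS : S.Prime) {u' : List Ent}
    (h : u'.Perm ((un.filter fun e => #(fe M S C e) ≠ e.m).map (upd M S C))) : InvU M (M.rest C S) u' := by
  refine ⟨fun e' he' => ?_, ?_, fun j hj p q hp hq hne h1 h2 => ?_⟩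
  · obtain ⟨e, he, rfl⟩ := List.mem_map.1 (h.subset he')
    obtain ⟨he, ht⟩ := List.mem_filter.1 he
    obtain ⟨h1, h2, h3, h4, h5, h6⟩ := U.un1 e he
    have h7 := N.card_pe e
    have h8 : #(fe M S C e) ≠ e.m := by simpa using ht
    refine ⟨h1, h2, h3, ?_, ?_, fun j h9 h10 h11 => h6 j h9 h10 (N.sub' h11)⟩
    · show e.m - #(fe M S C e) = #(M.pe (M.rest C S) e)
      omega
    · show 0 < e.m - #(fe M S C e)
      omega
  · refine (h.map _).nodup_iff.2 ?_
    rw [List.map_map]
    exact U.un2.sublist (List.filter_sublist.map Ent.key)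
  · have hj' : j ∉ T := (N.cases hj).resolve_right fun h3 => by
      rw [← (mem_grp.1 h3).1, h1] at hS
      exact Nat.not_prime_mul hp.ne_one hq.ne_one hS
    obtain ⟨e, he, h3, h4, h5⟩ := U.un3 j hj' p q hp hq hne h1 (N.sub' h2)
    refine ⟨FewCl.upd M S C e, h.symm.subset (List.mem_map_of_mem (List.mem_filter.2 ⟨he, ?_⟩)), h3, h4, h5⟩
    have h6 := N.card_pe e
    have h7 : 0 < #(M.pe (M.rest C S) e) := card_pos.2 ⟨j, mem_pe.2 ⟨by rw [h3, h4, h1], h5.symm, h3 ▸ h2⟩⟩
    have := (U.un1 e he).2.2.2.1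
    simp only [ne_eq, decide_eq_true_eq]
    omega

theorem InvU.sum_fe (U : InvU M T un) (N : Nx M T S C) (hS : S.Prime) (φ : ℕ → Prop)
    [DecidablePred φ] (w : ℕ → ℕ) :
    ((un.filter (·.p = S)).map fun e => if φ e.q then #(fe M S C e) * w e.c else 0).sum =
      ∑ j with (∃ q, (q.Prime ∧ q ≠ S ∧ M.s j = S * q) ∧ φ q) ∧ M.pt j S ∈ M.grp S C, w (M.c j) := by
  have hn : (un.filter (·.p = S)).Nodup := (List.Nodup.of_map _ U.un2).filter _
  rw [← List.sum_toFinset _ hn, ← sum_filter, sum_congr rfl (g := fun e => ∑ j ∈ fe M S C e, w (M.c j))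
    fun e _ => by rw [sum_congr rfl fun j hj => by rw [(mem_pe.1 hj).2.1], sum_const, smul_eq_mul],
    ← sum_biUnion]
  · congr 1
    ext j
    simp only [mem_biUnion, mem_filter, List.mem_toFinset, List.mem_filter, decide_eq_true_eq, mem_univ,
      true_and, fe, mem_pe]
    constructor
    · rintro ⟨e, ⟨⟨he, rfl⟩, h1⟩, h2, h3, h4⟩
      obtain ⟨-, h5, h6, -⟩ := U.un1 e he
      exact ⟨⟨e.q, ⟨h5, h6.symm, h2⟩, h1⟩, h4⟩
    · rintro ⟨⟨q, ⟨h1, h2, h3⟩, h4⟩, h5⟩
      obtain ⟨e, he, h6, h7, h8⟩ := U.un3 j (N.done hS h1 h2 h3 h5) S q hS h1 h2.symm h3 (N.sub h5)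
      exact ⟨e, ⟨⟨he, h6⟩, h7 ▸ h4⟩, by rw [h6, h7, h3], h8.symm, h6 ▸ h5⟩
  · intro e he e' he' hne
    simp only [coe_filter, List.mem_toFinset, List.mem_filter, decide_eq_true_eq, Set.mem_ofPred_eq] at he he'
    refine disjoint_left.2 fun j h1 h2 => hne (List.inj_on_of_nodup_map U.un2 he.1.1 he'.1.1 ?_)
    obtain ⟨h3, h4, -⟩ := mem_pe.1 h1
    obtain ⟨h5, h6, -⟩ := mem_pe.1 h2
    rw [he.1.2] at h3
    rw [he'.1.2, h3] at h5
    simp only [Ent.key, he.1.2, he'.1.2, Nat.eq_of_mul_eq_mul_left hS.pos h5, ← h4, h6]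

theorem sumV_eq (acc : Acc) : sumV acc = (acc.map (·.2.2)).sum := by
  induction acc with
  | nil => rfl
  | cons x l ih => exact congrArg (x.2.2 + ·) ih

theorem sumVq_eq (q : ℕ) (acc : Acc) :
    sumVq q acc = (acc.map fun x => if x.1 = q then x.2.2 else 0).sum := by
  induction acc with
  | nil => rfl
  | cons x l ih =>
    have : sumVq q (x :: l) = (IF Nat.beq x.1 q THEN Nat.add x.2.2 (sumVq q l) ELSE sumVq q l) := rfl
    rw [this, if_eq, ih]
    by_cases h : x.1 = q <;> simp [h]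

theorem sumTq_eq (q : ℕ) (acc : Acc) :
    sumTq q acc = (acc.map fun x => if x.1 = q then x.2.1 else 0).sum := by
  induction acc with
  | nil => rfl
  | cons x l ih =>
    have : sumTq q (x :: l) = (IF Nat.beq x.1 q THEN Nat.add x.2.1 (sumTq q l) ELSE sumTq q l) := rfl
    rw [this, if_eq, ih]
    by_cases h : x.1 = q <;> simp [h]

theorem sum_grp (P : ι → Prop) [DecidablePred P] (w : ι → ℕ) :
    ∑ u ∈ M.grp S C, (1 + ∑ j with P j ∧ M.pt j S = u, w j) =
      #(M.grp S C) + ∑ j with P j ∧ M.pt j S ∈ M.grp S C, w j := by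
  rw [sum_add_distrib, sum_const, smul_eq_mul, mul_one,
    ← sum_fiberwise_of_maps_to (s := {j | P j ∧ M.pt j S ∈ M.grp S C}) (t := M.grp S C)
      (g := fun j => M.pt j S) fun j hj => (mem_filter.1 hj).2.2]
  congr 1
  refine sum_congr rfl fun u hu => sum_congr ?_ fun _ _ => rfl
  ext j
  simp only [mem_filter, mem_univ, true_and]
  exact ⟨fun h => ⟨⟨h.1, h.2 ▸ hu⟩, h.2⟩, fun h => ⟨h.1.1, h.2⟩⟩

theorem chk_of (U : InvU M T un) (N : Nx M T S C) (hS : S.Prime) {acc : Acc}
    (h : acc.Perm ((un.filter (·.p = S)).map (ac M S C))) {k : List Ent → Bool} {u : List Ent}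
    (hk : chk S C #(M.grp S C) k acc u = true) : k u = true := by
  rw [chk, imp_iff, imp_iff, allL_iff, ble_iff] at hk
  refine hk (fun x hx => ?_) ?_
  · obtain ⟨e, he, rfl⟩ := List.mem_map.1 (h.subset hx)
    obtain ⟨he, hp⟩ := List.mem_filter.1 he
    obtain ⟨-, hq, hne, -⟩ := U.un1 e he
    rw [decide_eq_true_eq] at hp
    rw [hp] at hne
    have hset : ∀ j, ((∃ q, (q.Prime ∧ q ≠ S ∧ M.s j = S * q) ∧ q = e.q) ∧ M.pt j S ∈ M.grp S C) ↔
        M.s j = S * e.q ∧ M.pt j S ∈ M.grp S C := fun j => and_congr_left' ⟨by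
          rintro ⟨q, h, rfl⟩; exact h.2.2, fun h => ⟨_, ⟨hq, hne.symm, h⟩, rfl⟩⟩
    rw [chk1, imp_iff, dv_iff, and_iff, ble_iff, force_eq, chk2, or_iff, dv_iff, dv_iff]
    intro hd
    refine ⟨?_, ?_⟩
    · have := U.sum_fe N hS (· = e.q) fun _ => 1
      simp only [mul_one, hset, ← card_eq_sum_ones] at this
      rw [sumTq_eq, (h.map _).sum_eq, List.map_map]
      refine le_trans (card_le_card_of_surjOn (s := {j | M.s j = S * e.q ∧ M.pt j S ∈ M.grp S C})
        (fun j => M.pt j S) fun u hu => ?_) (le_of_eq (this.symm.trans ?_))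
      · obtain ⟨h1, h2⟩ := mem_grp.1 hu
        obtain ⟨j, h3, h4⟩ := M.wit u e.q (h1 ▸ hS) hq (h1 ▸ hne.symm) (h2 ▸ hd)
        rw [h1] at h3 h4
        exact ⟨j, by simpa [h3, h4] using hu, h4⟩
      · rfl
    · obtain ⟨a, -, ha⟩ := (Nat.dvd_prime_pow hq).1 (Nat.gcd_dvd_right C (e.q ^ 64))
      show e.q ∣ C / Nat.gcd C (e.q ^ 64) ∨ Nat.gcd C (e.q ^ 64) ∣ _ + sumVq e.q acc
      have hd' : e.q ^ a ∣ C := ha ▸ Nat.gcd_dvd_left _ _
      rw [ha, or_iff_not_imp_left]
      intro hn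
      have := U.sum_fe N hS (· = e.q) (C / ·)
      simp only [hset] at this
      have e1 : sumVq e.q acc = ∑ j with M.s j = S * e.q ∧ M.pt j S ∈ M.grp S C, C / M.c j := by
        rw [sumVq_eq, (h.map _).sum_eq, List.map_map, ← this]; rfl
      rw [e1, ← sum_grp]
      refine dvd_sum fun u hu => ?_
      obtain ⟨h1, h2⟩ := mem_grp.1 hu
      have := M.frob u e.q a (h1 ▸ hS) hq (h1 ▸ hne.symm) (h2 ▸ hd') (h2 ▸ hn)
      rwa [h1, h2] at this
  · have := U.sum_fe N hS (fun _ => True) (C / ·)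
    simp only [if_true, and_true] at this
    have e1 : sumV acc = ∑ j with (∃ q, q.Prime ∧ q ≠ S ∧ M.s j = S * q) ∧ M.pt j S ∈ M.grp S C,
        C / M.c j := by
      rw [sumV_eq, (h.map _).sum_eq, List.map_map, ← this]; rfl
    show (_ + sumV acc) * S ≤ _ * C
    rw [e1, ← sum_grp, sum_mul, ← smul_eq_mul, ← sum_const]
    refine sum_le_sum fun u hu => ?_
    obtain ⟨h1, h2⟩ := mem_grp.1 hu
    have := M.bnd u (h1 ▸ hS)
    rwa [h1, h2] at this

theorem dist_chk (U : InvU M T un) (N : Nx M T S C) (hS : S.Prime) {fu : Bool}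
    (hf : fu = true → ∀ i ∈ M.rest C S, M.s i ≠ S) : ∃ u', InvU M (M.rest C S) u' ∧
      ∀ k, dist fu S C un (chk S C #(M.grp S C) k) [] [] = true → k u' = true := by
  obtain ⟨acc, u', h1, h2, h3⟩ := dist_eq U N hf un (fun _ h => h) [] []
  rw [List.append_nil] at h1 h2
  exact ⟨u', U.upd N hS h2, fun k hk => chk_of U N hS h1 (h3 _ hk)⟩

end CfsgLib.FewCl
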