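import Mathlib
import Cfsg.Agent.Lib.FewCl.Dist

/-! Simple groups with few conjugacy classes: placing a group of classes. -/

set_option autoImplicit false

namespace CfsgLib.FewCl

open Finset CfsgLib.Comput Model
open scoped _root_.Classical

variable {ι : Type*} [Fintype ι] {K n cm : ℕ} {M : Model ι K n cm} {T : Finset ι} {S C : ℕ}
  {Q R R1 nm cz : ℕ} {nf fl nf' : List ℕ}

/-- no new Sylow centre -/
theorem InvF.keep (F : InvF M T Q R R1 nm cz nf fl) (N : Nx M T S C)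
    (hz : ∀ p, p.Prime → p ∣ n → M.z p ∉ M.grp S C) (h1 : nf'.Nodup) (h2 : ∀ y ∈ nf, y ∈ nf')
    (h3 : ∀ y ∈ nf', y ∈ nf ∨ (y.Prime ∧ y ∣ n ∧ ¬ y ∣ R))
    (h4 : ∀ r, r.Prime → r ∣ C → r ∣ R ∨ r ∈ nf') : InvF M (M.rest C S) Q R R1 nm cz nf' fl := by
  have hz' : ∀ p, p.Prime → p ∣ n → (M.z p ∉ M.rest C S ↔ M.z p ∉ T) := fun p hp hn =>
    ⟨fun h => (N.cases h).resolve_right (hz p hp hn), fun h h' => h (N.sub' h')⟩
  refine ⟨F.hQ, fun p hp hn => (hz' p hp hn).trans (F.hZ p hp hn), fun p hp h i hi => F.hR1 p hp h i (N.sub' hi),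
    F.hnm, fun h => F.hcz ((hz' 2 Nat.prime_two M.two).1 h), fun p hp => (h3 p hp).elim (F.nf1 p) id, h1,
    fun j hj r hr hd => ?_, F.hfl⟩
  rcases N.cases hj with h | h
  · exact (F.kn j h r hr hd).imp id (h2 r)
  · exact h4 r hr ((mem_grp.1 h).2 ▸ hd)

/-- a new Sylow centre -/
theorem InvF.flag (F : InvF M T Q R R1 nm cz nf fl) (N : Nx M T S C) {un : List Ent} (U : InvU M T un)
    (hS : S.Prime) (hz : M.z S ∈ M.grp S C) {q R1' nm' cz' : ℕ} {fl' : List ℕ}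
    (hq : ∀ j, S ^ j ∣ C → S ^ j ∣ q) (hR1 : ∀ p, p.Prime → p ∣ R1' → p ∣ R1 ∨ ∀ i ∈ M.rest C S, M.s i ≠ p)
    (hR1' : R1 ∣ R1') (hnm : nm' = 0 ∨ n ≤ nm') (hcz : cz' = if S = 2 then C else cz)
    (h1 : nf'.Nodup) (h2 : ∀ y ∈ nf, y ≠ S → y ∈ nf')
    (h3 : ∀ y ∈ nf', (y ∈ nf ∧ y ≠ S) ∨ (y.Prime ∧ y ∣ n ∧ ¬ y ∣ R * S))
    (h4 : ∀ y ∈ fl, y ∈ fl') (h5 : S ∣ R1' ∨ S ∈ fl') :
    InvF M (M.rest C S) (Q * q) (R * S) R1' nm' cz' nf' fl' := by
  have hd : ∀ p, p.Prime → (p ∣ R * S ↔ p ∣ R ∨ p = S) := fun p hp => by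
    rw [hp.dvd_mul, Nat.prime_dvd_prime_iff_eq hp hS]
  have hSn : S ∣ n := N.sdvd.trans N.dvd
  have hk : ∀ r, r.Prime → (r ∣ R ∨ r ∈ nf) → r ∣ R * S ∨ r ∈ nf' := fun r hr h => by
    by_cases h' : r = S
    · exact Or.inl ((hd r hr).2 (Or.inr h'))
    · exact h.imp (fun h => (hd r hr).2 (Or.inl h)) fun h => h2 r h h'
  refine ⟨fun p hp h j hj => ?_, fun p hp hn => ?_, fun p hp h i hi => ?_, hnm, fun h => ?_,
    fun p hp => ?_, h1, fun j hj r hr hd' => ?_, fun r hr h => ?_⟩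
  · rcases (hd p hp).1 h with h | rfl
    · exact (F.hQ p hp h j hj).mul_right _
    · exact (hq j ((mem_grp.1 hz).2 ▸ (M.zs p hp hSn).2 j hj)).mul_left _
  · rw [hd p hp, ← F.hZ p hp hn]
    refine ⟨fun h => (N.cases h).imp id fun h => (M.zs p hp hn).1.symm.trans (mem_grp.1 h).1, ?_⟩
    rintro (h | rfl)
    · exact fun h' => h (N.sub' h')
    · exact Nx.not_rest hz
  · rcases hR1 p hp h with h | h
    · exact F.hR1 p hp h i (N.sub' hi)
    · exact h i hi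
  · rw [hcz]
    split_ifs with h'
    · subst h'; exact (mem_grp.1 hz).2.symm
    · exact F.hcz ((N.cases h).resolve_right fun h6 =>
        h' ((mem_grp.1 h6).1.symm.trans (M.zs 2 Nat.prime_two M.two).1))
  · rcases h3 p hp with h | h
    · obtain ⟨h6, h7, h8⟩ := F.nf1 p h.1
      exact ⟨h6, h7, fun h9 => ((hd p h6).1 h9).elim h8 h.2⟩
    · exact h
  · rcases N.cases hj with h | h
    · exact hk r hr (F.kn j h r hr hd')
    · rcases N.primes U hS hr ((mem_grp.1 h).2 ▸ hd') with rfl | ⟨e, -, -, -, j, h6, h7⟩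
      · exact Or.inl (Dvd.intro_left _ rfl)
      · exact hk r hr (F.kn j h6 r hr h7)
  · rcases (hd r hr).1 h with h | rfl
    · exact (F.hfl r hr h).imp (·.trans hR1') (h4 r)
    · exact h5

variable {s : St} (h : Inv M s) (N : Nx M (M.rest s.lc s.ls) S C)
include h N

theorem optA_gd (hS : S.Prime) (hz : M.z S ∉ M.grp S C) {un : List Ent} (U : InvU M (M.rest C S) un)
    (h1 : nf'.Nodup) (h2 : ∀ y, y ∈ nf' ↔ y ∈ s.nf ∨ (y = S ∧ ¬ S ∣ s.R)) :
    Gd M s.sl fun k => optA k s S C #(M.grp S C) un nf' := by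
  refine fin2_gd h N N.dvd U (h.F.keep N (fun p hp hn h3 => ?_) h1 (fun y hy => (h2 y).2 (Or.inl hy))
    (fun y hy => ((h2 y).1 hy).imp id ?_) fun r hr hd => ?_)
  · obtain rfl : p = S := (M.zs p hp hn).1.symm.trans (mem_grp.1 h3).1
    exact hz h3
  · rintro ⟨rfl, h3⟩
    exact ⟨hS, N.sdvd.trans N.dvd, h3⟩
  · rcases N.primes h.U hS hr hd with rfl | ⟨e, -, -, -, j, h6, h7⟩
    · by_cases h3 : r ∣ s.R
      · exact Or.inl h3
      · exact Or.inr ((h2 r).2 (Or.inr ⟨rfl, h3⟩))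
    · exact (h.F.kn j h6 r hr h7).imp id fun h => (h2 r).2 (Or.inl h)

theorem optB_gd (hS : S.Prime) (hz : M.z S ∈ M.grp S C) {un : List Ent} (U : InvU M (M.rest C S) un) :
    Gd M s.sl fun k => optB K k s S C #(M.grp S C) un := by
  by_cases hq : S ∣ C / Nat.gcd C (S ^ 64)
  · obtain ⟨i, -⟩ := N.ne
    refine (fin2_gd h N N.dvd U (h.F.flag N h.U hS hz (q := C) (R1' := s.R1) (nm' := 0) (fl' := S :: s.fl)
      (fun _ h => h) (fun _ _ h => Or.inl h) dvd_rfl (Or.inl rfl) rfl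
      (h.F.nf2.filter (· ≠ S)) (by simp +contextual) (by simp +contextual)
      (fun _ => List.mem_cons_of_mem _) (Or.inr List.mem_cons_self))).mono fun k hk => ?_
    rw [optB, force_eq, optB2, if_eq, if_pos (by rwa [dv_iff])] at hk
    exact absurd hk (by simp)
  have hq' : ∀ j, S ^ j ∣ C → S ^ j ∣ Nat.gcd C (S ^ 64) := fun j hj => by
    rw [← Nat.mul_div_cancel' (Nat.gcd_dvd_left C (S ^ 64))] at hj
    exact (Nat.Coprime.pow_left j ((Nat.Prime.coprime_iff_not_dvd hS).2 hq)).dvd_of_dvd_mul_right hj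
  obtain ⟨l, h1, h2, h3⟩ := eraK_eq S s.nf h.F.nf2
  have F := fun nm' (hnm : nm' = 0 ∨ n ≤ nm') => h.F.flag N h.U hS hz (fl' := S :: s.fl) hq'
    (fun _ _ h => Or.inl h) dvd_rfl hnm rfl h1 (fun y h4 h5 => (h2 y).2 ⟨h4, h5⟩)
    (fun y hy => Or.inl ((h2 y).1 hy)) (fun _ => List.mem_cons_of_mem _) (Or.inr List.mem_cons_self)
  by_cases h2 : S = 2
  · refine (fin2_gd h N N.dvd U (F (if s.nm = 0 then C * (C * (K - 1) + 1) else s.nm) ?_)).mono
      fun k hk => ?_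
    · split_ifs with h4
      · subst h2
        exact Or.inr ((mem_grp.1 hz).2 ▸ M.bf)
      · exact h.F.hnm
    · rw [optB, force_eq, optB2, if_eq, if_neg (by rwa [dv_iff]), force_eq, force_eq, h3, optB3, if_eq,
        if_pos (by rwa [beq_iff]), force_eq, if_eq] at hk
      simp only [beq_iff] at hk
      rw [if_pos h2]; exact hk
  · refine (fin2_gd h N N.dvd U (F _ h.F.hnm)).mono fun k hk => ?_
    rw [optB, force_eq, optB2, if_eq, if_neg (by rwa [dv_iff]), force_eq, force_eq, h3, optB3, if_eq,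
      if_neg (by rwa [beq_iff])] at hk
    rw [if_neg h2]; exact hk

theorem optAB_gd (hS : S.Prime) {fu : Bool} (hf : fu = true → ∀ i ∈ M.rest C S, M.s i ≠ S)
    {un : List Ent} (U : InvU M (M.rest C S) un) :
    Gd M s.sl fun k => optAB K k s fu S C #(M.grp S C) un := by
  have hSn : S ∣ n := N.sdvd.trans N.dvd
  by_cases h1 : S ∣ s.R
  · refine (optA_gd h N hS (fun h2 => (h.F.hZ S hS hSn).2 h1 (N.sub h2)) U h.F.nf2
      (by simp [h1])).mono fun k hk => ?_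
    rwa [optAB, if_eq, if_pos (by rwa [dv_iff])] at hk
  by_cases h2 : M.z S ∈ M.grp S C
  · refine (optB_gd h N hS h2 U).mono fun k hk => ?_
    rw [optAB, if_eq, if_neg (by rwa [dv_iff]), and_iff] at hk
    exact hk.2
  · obtain ⟨l, h3, h4, h5⟩ := addK_eq s.R S s.nf h.F.nf2
    refine (optA_gd h N hS h2 U h3 h4).mono fun k hk => ?_
    rw [optAB, if_eq, if_neg (by rwa [dv_iff]), and_iff, or_iff, h5] at hk
    refine hk.1.resolve_left fun h6 => ?_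
    have h7 : M.z S ∈ M.rest s.lc s.ls := by
      by_contra h7; exact h1 ((h.F.hZ S hS hSn).1 h7)
    exact hf h6 _ (((N.eq _).1 h7).resolve_left h2) (M.zs S hS hSn).1

omit h in
theorem Nx.one (hS : S.Prime) (h1 : ¬ S * S ∣ C) : (∀ j, M.s j = S → j ∈ M.grp S C) ∧
    ∃ e, #(M.grp S C) * e + 1 = S ∧ 2 ≤ e ∧ e + #(M.grp S C) ≤ K ∧ C * e ∣ n := by
  obtain ⟨i, hi⟩ := N.ne
  obtain ⟨h2, h3⟩ := mem_grp.1 hi
  have := M.one i (h2 ▸ hS) (by rwa [h2, h3])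
  rw [h2, h3] at this
  have h4 : ({j | M.s j = S} : Finset ι) = M.grp S C := by
    ext j; simp only [mem_filter, mem_univ, true_and, mem_grp]; exact ⟨fun h => ⟨h, this.1 j h⟩, And.left⟩
  rw [h4] at this
  exact ⟨fun j hj => mem_grp.2 ⟨hj, this.1 j hj⟩, this.2⟩

theorem optC_gd (hS : S.Prime) (h1 : ¬ S * S ∣ C) {fu : Bool}
    (hf : fu = true → ∀ i ∈ M.rest C S, M.s i ≠ S) :
    Gd M s.sl fun k => optC K k s fu S C #(M.grp S C) := by
  have hSn : S ∣ n := N.sdvd.trans N.dvd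
  obtain ⟨h2, e, h3, h4, h5, h6⟩ := Nx.one N hS h1
  have hz := h2 _ (M.zs S hS hSn).1
  obtain ⟨un, U, hu⟩ := dist_chk h.U N hS hf
  obtain ⟨l, a1, a2, a3⟩ := eraK_eq S s.nf h.F.nf2
  obtain ⟨l3, b1, b2, b3, b4⟩ := addD_eq e (s.R * S) 3 l a1
  obtain ⟨l5, c1, c2, c3, c4⟩ := addD_eq e (s.R * S) 5 l3 b1
  obtain ⟨l7, d1, d2, d3, d4⟩ := addD_eq e (s.R * S) 7 l5 c1
  have hen : e ∣ n := (Dvd.intro_left _ rfl).trans h6
  have hcz : s.cz = if S = 2 then C else s.cz := by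
    rw [if_neg]; rintro rfl; have := N.m_pos; nlinarith
  refine (fin2_gd h N h6 U (h.F.flag N h.U hS hz (q := S) (R1' := s.R1 * S) (fl' := s.fl) (fun j hj => ?_)
    (fun p hp hd => ?_) (Dvd.intro _ rfl) h.F.hnm hcz d1 (fun y h7 h8 => d2 _ (c2 _ (b2 _ ((a2 y).2 ⟨h7, h8⟩))))
    (fun y hy => ?_) (fun _ h => h) (Or.inl (Dvd.intro_left _ rfl)))).mono fun k hk => ?_
  · rcases j with _ | _ | j
    · simp
    · simp
    · exact absurd (Dvd.dvd.trans ⟨S ^ j, by ring⟩ hj) h1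
  · rcases (Nat.Prime.dvd_mul hp).1 hd with h7 | h7
    · exact Or.inl h7
    · obtain rfl := (Nat.prime_dvd_prime_iff_eq hp hS).1 h7
      exact Or.inr fun i hi h8 => Nx.not_rest (h2 i h8) hi
  · rcases d3 y hy with hy | ⟨rfl, h7, h8⟩
    · rcases c3 y hy with hy | ⟨rfl, h7, h8⟩
      · rcases b3 y hy with hy | ⟨rfl, h7, h8⟩
        · exact Or.inl ((a2 y).1 hy)
        · exact Or.inr ⟨by norm_num, h8.trans hen, h7⟩
      · exact Or.inr ⟨by norm_num, h8.trans hen, h7⟩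
    · exact Or.inr ⟨by norm_num, h8.trans hen, h7⟩
  · have h7 : ¬ S ∣ s.R := fun h7 => (h.F.hZ S hS hSn).2 h7 (N.sub hz)
    have h8 : Nat.sub S 1 = #(M.grp S C) * e := by show S - 1 = _; omega
    have h9 : Nat.div (#(M.grp S C) * e) #(M.grp S C) = e := Nat.mul_div_cancel_left _ N.m_pos
    rw [optC, or_iff, imp_iff, dv_iff, dv_iff, force_eq, h8, h9, optC0, imp_iff, imp_iff, ble_iff,
      ble_iff] at hk
    have := hu _ (hk.resolve_left h7 (Dvd.intro _ rfl) h4 h5)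
    simp only [optC1, force_eq, a3, optC2] at this
    erw [b4, c4, d4] at this
    exact this

theorem placeF_gd (hS : S.Prime) {fu : Bool} (hf : fu = true → ∀ i ∈ M.rest C S, M.s i ≠ S) :
    Gd M s.sl fun k => placeF K k s S C #(M.grp S C) fu := by
  by_cases h1 : S * S ∣ C
  · obtain ⟨un, U, hu⟩ := dist_chk h.U N hS hf
    refine (optAB_gd h N hS hf U).mono fun k hk => hu _ ?_
    rwa [placeF, if_eq, if_pos (by rwa [dv_iff])] at hk
  · refine (optC_gd h N hS h1 hf).mono fun k hk => ?_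
    rwa [placeF, if_eq, if_neg (by rwa [dv_iff])] at hk

theorem placeP_gd (hS : S.Prime) {mA : ℕ} (hf : mA < #(M.grp S C) → ∀ i ∈ M.rest C S, M.s i ≠ S) :
    Gd M s.sl fun k => placeP K k s mA S C #(M.grp S C) := by
  by_cases h1 : #(M.grp S C) ≤ mA
  · refine (placeF_gd h N hS (fu := false) (by simp)).mono fun k hk => ?_
    rwa [placeP, if_eq, if_pos (by rwa [ble_iff])] at hk
  · refine (placeF_gd h N hS (fu := true) fun _ => hf (by omega)).mono fun k hk => ?_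
    rwa [placeP, if_eq, if_neg (by rwa [ble_iff])] at hk

omit h in
theorem Nx.part {p q : ℕ} (hp : p.Prime) (hq : q.Prime) (hne : p ≠ q) (hS : S = p * q) {j : ι}
    (hj : j ∈ M.grp S C) : M.pt j p ∈ M.rest C S ∧ M.s (M.pt j p) = p := by
  obtain ⟨h1, h2⟩ := mem_grp.1 hj
  obtain ⟨h3, h4, -⟩ := M.pts j p q hp hq hne (h1.trans hS)
  have h5 := Nat.le_of_dvd (M.c_pos _) h4
  have h6 : p < p * q := lt_mul_of_one_lt_right hp.pos hq.one_lt
  exact ⟨by rw [mem_rest]; omega, h3⟩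

theorem placeC_gd {p q : ℕ} (hp : p.Prime) (hq : q.Prime) (hne : p ≠ q) (hS : S = p * q) :
    Gd M s.sl fun k => placeC k s p q S C #(M.grp S C) := by
  have hSn : S ∣ n := N.sdvd.trans N.dvd
  have hnp : ¬ S.Prime := hS ▸ Nat.not_prime_mul hp.ne_one hq.ne_one
  obtain ⟨l1, a1, a2, a3⟩ := addK_eq s.R p s.nf h.F.nf2
  obtain ⟨l2, b1, b2, b3⟩ := addK_eq s.R q l1 a1
  have hnew : ∀ p q : ℕ, p.Prime → q.Prime → p ≠ q → S = p * q →
      M.pe (M.rest C S) ⟨p, q, C, #(M.grp S C)⟩ = M.grp S C := fun p q hp hq hne hS => by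
    ext j
    rw [mem_pe, mem_grp, ← hS]
    exact ⟨fun h => ⟨h.1, h.2.1⟩, fun h => ⟨h.1, h.2, (Nx.part N hp hq hne hS (mem_grp.2 h)).1⟩⟩
  have hold : ∀ e ∈ s.un, ∀ p q : ℕ, S = p * q → (p, q, C) ≠ e.key := fun e he p q hS h1 => by
    obtain ⟨i, hi⟩ := N.ne
    simp only [Ent.key, Prod.mk.injEq] at h1
    exact (h.U.un1 e he).2.2.2.2.2 i (by rw [(mem_grp.1 hi).1, hS, h1.1, h1.2.1])
      (by rw [(mem_grp.1 hi).2, h1.2.2]) (N.sub hi)
  have hS' : S = q * p := hS.trans (mul_comm _ _)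
  refine (fin2_gd h N N.dvd (un := ⟨p, q, C, #(M.grp S C)⟩ :: ⟨q, p, C, #(M.grp S C)⟩ :: s.un)
    ⟨fun e he => ?_, ?_, fun j hj p' q' hp' hq' hne' h1 h2 => ?_⟩
    (h.F.keep N (fun r hr hn h1 => hnp ?_) b1 (fun y hy => (b2 y).2 (Or.inl ((a2 y).2 (Or.inl hy))))
      (fun y hy => ?_) fun r hr hd => ?_)).mono fun k hk => ?_
  · simp only [List.mem_cons] at he
    rcases he with rfl | rfl | he
    · exact ⟨hp, hq, hne, by rw [hnew p q hp hq hne hS], N.m_pos, fun j h1 h2 =>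
        Nx.not_rest (mem_grp.2 ⟨h1.trans hS.symm, h2⟩)⟩
    · exact ⟨hq, hp, hne.symm, by rw [hnew q p hq hp hne.symm hS'], N.m_pos, fun j h1 h2 =>
        Nx.not_rest (mem_grp.2 ⟨h1.trans hS'.symm, h2⟩)⟩
    · obtain ⟨h1, h2, h3, h4, h5, h6⟩ := h.U.un1 e he
      refine ⟨h1, h2, h3, ?_, h5, fun j h7 h8 h9 => h6 j h7 h8 (N.sub' h9)⟩
      have h7 : #(fe M S C e) = 0 := by
        by_contra h7; exact hnp ((h.U.fe_cand he h7).1 ▸ h1)
      rw [h4, N.card_pe, h7, zero_add]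
  · simp only [List.map_cons, List.nodup_cons, List.mem_cons, List.mem_map, not_or, not_exists, not_and]
    exact ⟨⟨by simp [Ent.key, hne], fun e he h1 => hold e he p q hS h1.symm⟩,
      fun e he h1 => hold e he q p hS' h1.symm, h.U.un2⟩
  · rcases N.cases hj with h3 | h3
    · obtain ⟨e, he, h4⟩ := h.U.un3 j h3 p' q' hp' hq' hne' h1 (N.sub' h2)
      exact ⟨e, List.mem_cons_of_mem _ (List.mem_cons_of_mem _ he), h4⟩
    · obtain ⟨h4, h5⟩ := mem_grp.1 h3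
      have h6 : p' * q' = p * q := by rw [← h1, h4, hS]
      rcases (Nat.Prime.dvd_mul hp').1 (Dvd.intro _ h6) with h7 | h7
      · obtain rfl := (Nat.prime_dvd_prime_iff_eq hp' hp).1 h7
        exact ⟨_, List.mem_cons_self, rfl, (Nat.eq_of_mul_eq_mul_left hp.pos h6).symm, h5.symm⟩
      · obtain rfl := (Nat.prime_dvd_prime_iff_eq hp' hq).1 h7
        rw [mul_comm p] at h6
        exact ⟨_, List.mem_cons_of_mem _ List.mem_cons_self, rfl,
          (Nat.eq_of_mul_eq_mul_left hq.pos h6).symm, h5.symm⟩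
  · rwa [← (mem_grp.1 h1).1, (M.zs r hr hn).1]
  · rcases (b2 y).1 hy with hy | ⟨rfl, h1⟩
    · rcases (a2 y).1 hy with hy | ⟨rfl, h1⟩
      · exact Or.inl hy
      · exact Or.inr ⟨hp, (Dvd.intro _ hS.symm).trans hSn, h1⟩
    · exact Or.inr ⟨hq, (Dvd.intro _ hS'.symm).trans hSn, h1⟩
  · obtain ⟨i, hi⟩ := N.ne
    obtain ⟨h1, h2⟩ := mem_grp.1 hi
    have h3 := M.comp i r (h1 ▸ hnp) hr (h2 ▸ hd)
    rw [h1, hS] at h3
    by_cases h4 : r ∣ s.R
    · exact Or.inl h4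
    rcases (Nat.Prime.dvd_mul hr).1 h3 with h5 | h5
    · obtain rfl := (Nat.prime_dvd_prime_iff_eq hr hp).1 h5
      exact Or.inr ((b2 _).2 (Or.inl ((a2 _).2 (Or.inr ⟨rfl, h4⟩))))
    · obtain rfl := (Nat.prime_dvd_prime_iff_eq hr hq).1 h5
      exact Or.inr ((b2 _).2 (Or.inr ⟨rfl, h4⟩))
  · rwa [placeC, a3, b3] at hk

end CfsgLib.FewCl
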