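import Mathlib
import Cfsg.Agent.Lib.FewCl.Place

/-! Simple groups with few conjugacy classes: soundness of the search. -/

set_option autoImplicit false

namespace CfsgLib.FewCl

open Finset CfsgLib.Comput Model
open scoped _root_.Classical

variable {ι : Type*} [Fintype ι] {K n cm : ℕ} {M : Model ι K n cm} {S C : ℕ}
  {s : St} (h : Inv M s) (N : Nx M (M.rest s.lc s.ls) S C)

/-- the list of the primes that must still occur -/
structure Nd (s : St) (nd : List ℕ) : Prop where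
  nodup : nd.Nodup
  mem : ∀ y, y ∈ nd ↔ y ∈ s.nf ∨ ∃ e ∈ s.un, e.p = y

include h in
theorem Nd.ex {nd : List ℕ} (D : Nd s nd) {d : ℕ} (hd : d ∈ nd) :
    d.Prime ∧ ∃ i ∈ M.rest s.lc s.ls, M.s i = d := by
  rcases (D.mem d).1 hd with h1 | ⟨e, he, rfl⟩
  · obtain ⟨h2, h3, h4⟩ := h.F.nf1 d h1
    exact ⟨h2, M.z d, by by_contra h5; exact h4 ((h.F.hZ d h2 h3).1 h5), (M.zs d h2 h3).1⟩
  · obtain ⟨h1, h2, h3, h4, h5, -⟩ := h.U.un1 e he
    obtain ⟨j, hj⟩ := card_pos.1 (h4 ▸ h5)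
    obtain ⟨h6, -, h7⟩ := mem_pe.1 hj
    exact ⟨h1, _, h7, (M.pts j _ _ h1 h2 h3 h6).1⟩

include h N

theorem cnt {l : List ℕ} (hl : l.Nodup) (h' : ∀ d ∈ l, ∃ i ∈ M.rest C S, M.s i = d) :
    l.length + #(M.grp S C) ≤ s.sl := by
  have := length_le hl h'
  rw [h.sl, N.card_eq]; omega

theorem Nd.ex' {nd : List ℕ} (D : Nd s nd) {d : ℕ} (hd : d ∈ nd) (hS : d ≠ S) :
    ∃ i ∈ M.rest C S, M.s i = d := by
  obtain ⟨-, i, h1, h2⟩ := D.ex h hd
  exact ⟨i, N.of_ne h1 (h2 ▸ hS), h2⟩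

omit h in
theorem loS_le {lo : ℕ} (hlo : lo ≤ C) : loS s lo S ≤ C := by
  obtain ⟨i, hi⟩ := N.ne
  have h1 := mem_rest.1 (N.sub hi)
  rw [(mem_grp.1 hi).1, (mem_grp.1 hi).2] at h1
  rw [loS, if_eq, if_eq]
  simp only [ble_iff, Nat.succ_eq_add_one]
  split_ifs <;> omega

theorem gcd_R1 : Nat.beq (Nat.gcd S s.R1) 1 = true := by
  rw [beq_iff]
  refine Nat.coprime_of_dvd fun p hp h1 h2 => ?_
  obtain ⟨i, hi⟩ := N.ne
  have h3 := (mem_grp.1 hi).1
  rcases M.typ i with h4 | ⟨a, b, ha, hb, hab, h4⟩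
  · exact h.F.hR1 p hp h2 i (N.sub hi) ((Nat.prime_dvd_prime_iff_eq hp h4).1 (h3 ▸ h1)).symm
  · rw [h3] at h4
    rcases (Nat.Prime.dvd_mul hp).1 (h4 ▸ h1) with h5 | h5
    · obtain rfl := (Nat.prime_dvd_prime_iff_eq hp ha).1 h5
      have := Nx.part N ha hb hab.ne h4 hi
      exact h.F.hR1 p hp h2 _ (N.sub' this.1) this.2
    · obtain rfl := (Nat.prime_dvd_prime_iff_eq hp hb).1 h5
      have := Nx.part N hb ha hab.ne' (h4.trans (mul_comm _ _)) hi
      exact h.F.hR1 p hp h2 _ (N.sub' this.1) this.2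

theorem allM_of {lo mx : ℕ} {f : ℕ → ℕ → Bool} (hlo : lo ≤ C) (hm : #(M.grp S C) ≤ mx)
    (hk : allM s lo mx f C = true) : f C #(M.grp S C) = true := by
  rw [allM, imp_iff, imp_iff, ble_iff, force_eq] at hk
  exact allM1_of (hk hlo (qr_ok M.npos h.F.hQ N.dvd)) N.m_pos hm (h.lt N)

theorem smo_allM {lo hi mx v : ℕ} {ps : List ℕ} {f : ℕ → ℕ → Bool} (hlo : lo ≤ C) (hhi : C ≤ hi)
    (hm : #(M.grp S C) ≤ mx) (hv : v ∣ C) (hps : ∀ r, r.Prime → v * r ∣ C → r ∈ ps)
    (hk : smo ps (leB hi) (allM s lo mx f) v = true) : f C #(M.grp S C) = true := by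
  obtain ⟨w, hw⟩ := hv
  refine allM_of h N hlo hm (smo_of (fun x hx => (ble_iff _ _).2 ((Nat.le_of_dvd N.pos hx).trans hhi)) ps v w hw
    (by rintro rfl; exact N.pos.ne' (by simpa using hw)) (fun r hr hd => hps r hr ?_) hk)
  rw [hw]; exact Nat.mul_dvd_mul_left _ hd

theorem candP_gd (hS : S.Prime) {lo hi mx mA : ℕ} (hlo : lo ≤ C) (hhi : C ≤ hi) (hm : #(M.grp S C) ≤ mx)
    (hf : mA < #(M.grp S C) → ∀ i ∈ M.rest C S, M.s i ≠ S) :
    Gd M s.sl fun k => candP K k s lo hi mx mA S := by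
  refine (placeP_gd h N hS hf).mono fun k hk => ?_
  rw [candP, imp_iff, force_eq, candP1, if_eq] at hk
  have hk := hk (gcd_R1 h N)
  split_ifs at hk with h0
  · rw [beq_iff] at h0
    have hf' := hf (h0 ▸ N.m_pos)
    have hc : ∀ e ∈ s.un, e.p = S → e.c ∣ C ∧ (e.q * e.q ∣ C → e.q * e.q ∣ e.c) := fun e he hp =>
      (h.U.fe_cand he (by rw [h.U.fe_full N hf' he hp]; exact (h.U.un1 e he).2.2.2.2.1.ne')).2
    obtain ⟨v, l, h1, -, h3, h4, h5⟩ := cofF_eq S C s.un (fun e he hp => (hc e he hp).1) S [S] N.sdvd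
    rw [h5] at hk
    refine smo_allM h N (loS_le N hlo) hhi hm h1 (fun r hr hd => ?_) hk
    rcases N.primes h.U hS hr ((Dvd.intro_left _ rfl).trans hd) with rfl | ⟨e, he, h6, rfl, -⟩
    · exact h3 _ List.mem_cons_self
    · obtain ⟨h7, h8, h9, h10, h11, -⟩ := h.U.un1 e he
      obtain ⟨j, hj⟩ := card_pos.1 (h10 ▸ h11)
      obtain ⟨h12, h13, -⟩ := mem_pe.1 hj
      have h14 : e.q ∣ e.c := (Dvd.intro_left _ h12.symm).trans (h13 ▸ M.sdvd j)
      exact (h4 e he h6).2 ((hc e he h6).2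
        ((Nat.mul_dvd_mul_right (h14.trans (h4 e he h6).1) _).trans hd))
  · obtain ⟨l, h1, h2, h3⟩ := cofK_eq S s.un [S]
    rw [h3] at hk
    refine smo_allM h N (loS_le N hlo) hhi hm N.sdvd (fun r hr hd => ?_) hk
    rcases N.primes h.U hS hr ((Dvd.intro_left _ rfl).trans hd) with rfl | ⟨e, he, h6, rfl, -⟩
    · exact h1 _ List.mem_cons_self
    · exact h2 e he h6

theorem Nd.pure {nd : List ℕ} (D : Nd s nd) (hS : S.Prime) (hn : S ∉ nd) {r : ℕ} (hr : r.Prime)
    (hd : r ∣ C) : r = S :=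
  (N.primes h.U hS hr hd).resolve_right fun ⟨e, he, h1, _⟩ => hn ((D.mem S).2 (Or.inr ⟨e, he, h1⟩))

theorem candN_gd {nd : List ℕ} (D : Nd s nd) (hS : S.Prime) (hn : S ∉ nd) {lo hi mx mA : ℕ} (hlo : lo ≤ C)
    (hhi : C ≤ hi) (hm : #(M.grp S C) ≤ mx) (hf : mA < #(M.grp S C) → ∀ i ∈ M.rest C S, M.s i ≠ S) :
    Gd M s.sl fun k => candN K k s nd lo hi mx mA S := by
  refine (placeP_gd h N hS hf).mono fun k hk => ?_
  rw [candN, or_iff, memL_iff, imp_iff, force_eq] at hk
  have hk' := hk.resolve_left hn (gcd_R1 h N)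
  rw [candN1, candQ] at hk'
  exact smo_allM h N (ps := [S]) (loS_le N hlo) hhi hm N.sdvd (fun r hr hd => by
    simp [D.pure h N hS hn hr ((Dvd.intro_left _ rfl).trans hd)]) hk'

theorem Nd.cntC {nd : List ℕ} (D : Nd s nd) {p q : ℕ} (hp : p.Prime) (hq : q.Prime) (hne : p ≠ q)
    (hS : S = p * q) : nd.length + (if p ∈ nd then 0 else 1) + (if q ∈ nd then 0 else 1) +
      #(M.grp S C) ≤ s.sl := by
  obtain ⟨i, hi⟩ := N.ne
  have h1 := Nx.part N hp hq hne hS hi
  have h2 := Nx.part N hq hp hne.symm (hS.trans (mul_comm _ _)) hi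
  have h3 : ∀ d ∈ nd, ∃ i ∈ M.rest C S, M.s i = d := fun d hd => D.ex' h N hd (by
    rintro rfl
    exact Nat.not_prime_mul hp.ne_one hq.ne_one (hS ▸ (D.ex h hd).1))
  split_ifs with a b b
  · simpa using cnt h N D.nodup h3
  · simpa using cnt h N (List.nodup_cons.2 ⟨b, D.nodup⟩) (List.forall_mem_cons.2 ⟨⟨_, h2⟩, h3⟩)
  · simpa using cnt h N (List.nodup_cons.2 ⟨a, D.nodup⟩) (List.forall_mem_cons.2 ⟨⟨_, h1⟩, h3⟩)
  · simpa using cnt h N (l := p :: q :: nd) (by simp [a, b, hne, D.nodup])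
      (List.forall_mem_cons.2 ⟨⟨_, h1⟩, List.forall_mem_cons.2 ⟨⟨_, h2⟩, h3⟩⟩)

theorem candC_gd {nd : List ℕ} (D : Nd s nd) {p q : ℕ} (hp : p.Prime) (hq : q.Prime) (hne : p ≠ q)
    (hS : S = p * q) {lo hi : ℕ} (hlo : lo ≤ C) (hhi : C ≤ hi) :
    Gd M s.sl fun k => candC k s nd (s.sl - nd.length) lo hi p q := by
  refine (placeC_gd h N hp hq hne hS).mono fun k hk => ?_
  have e : Nat.mul p q = S := hS.symm
  rw [candC, force_eq, e, candC1, imp_iff, imp_iff, force_eq, force_eq, ble_iff] at hk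
  refine smo_allM h N (loS_le N hlo) hhi ?_ N.sdvd (fun r hr hd => ?_)
    (hk ((Nat.le_of_dvd N.pos N.sdvd).trans hhi) (gcd_R1 h N))
  · have := D.cntC h N hp hq hne hS
    rw [if_eq, if_eq]
    simp only [memL_iff, Nat.sub_eq]
    omega
  · obtain ⟨i, hi⟩ := N.ne
    obtain ⟨h1, h2⟩ := mem_grp.1 hi
    have h3 := M.comp i r (by rw [h1, hS]; exact Nat.not_prime_mul hp.ne_one hq.ne_one) hr
      (h2 ▸ (Dvd.intro_left _ rfl).trans hd)
    rw [h1, hS, hr.dvd_mul, Nat.prime_dvd_prime_iff_eq hr hp, Nat.prime_dvd_prime_iff_eq hr hq] at h3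
    simpa using h3

omit h in
theorem Nx.five : 5 * C ≤ n := by obtain ⟨i, hi⟩ := N.ne; exact (mem_grp.1 hi).2 ▸ M.five i

theorem leaf_ex (h0 : M.rest C S = ∅) : ∃ w, w ∣ s.b ∧ w ∣ C ∧ ∀ f, leaf s f w = true → f C = true := by
  obtain ⟨t, ht⟩ := N.dvd
  have h1 := h.ab
  have h2 : n / C = t := by rw [ht, Nat.mul_div_cancel_left _ N.pos]
  have h3 : #(M.grp S C) = s.sl := by rw [h.sl, N.card_eq, h0]; simp
  rw [N.sum_eq, h2, h0, sum_empty, add_zero, h3] at h1
  have h5 : 5 ≤ t := by have := Nx.five N; have := N.pos; nlinarith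
  have h6 : t.Coprime (s.sl * t + 1) := by simp
  obtain ⟨w, hw⟩ : t ∣ s.b := h6.dvd_of_dvd_mul_right ⟨s.a * C, by rw [← h1, ht]; ring⟩
  have h7 : s.a * C = w * (s.sl * t + 1) :=
    Nat.eq_of_mul_eq_mul_left (show 0 < t by omega) (by rw [← mul_assoc t w, ← hw, ← h1, ht]; ring)
  have h8 : s.a.Coprime w := h.cop.coprime_dvd_right ⟨t, hw.trans (mul_comm _ _)⟩
  obtain ⟨u, hu⟩ : s.a ∣ s.sl * t + 1 := h8.dvd_of_dvd_mul_left ⟨C, h7.symm⟩
  have h9 : C = w * u := Nat.eq_of_mul_eq_mul_left h.apos (by rw [h7, hu]; ring)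
  have hw0 : 0 < w := Nat.pos_of_ne_zero (by rintro rfl; exact h.bpos.ne' (by simpa using hw))
  refine ⟨w, ⟨t, hw.trans (mul_comm _ _)⟩, ⟨u, h9⟩, fun f hf => ?_⟩
  have e1 : Nat.div s.b w = t := by rw [hw]; exact Nat.mul_div_cancel _ hw0
  have e2 : Nat.succ (Nat.mul s.sl t) = s.a * u := hu
  have e3 : Nat.mul w (Nat.div (s.a * u) s.a) = C := by
    rw [h9]; exact congrArg (w * ·) (Nat.mul_div_cancel_left _ h.apos)
  have e4 : Nat.mul C t = n := ht.symm
  rw [leaf, force_eq, e1, leaf1, force_eq, e2, leaf2, imp_iff, imp_iff, force_eq, e3, leaf3, imp_iff,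
    force_eq, e4, imp_iff, imp_iff, dv_iff, dv_iff, ble_iff, ble_iff, or_iff, beq_iff, ble_iff] at hf
  obtain ⟨i, hi⟩ := N.ne
  have := mem_rest.1 (N.sub hi)
  exact hf (Dvd.intro _ rfl) h5 (by rw [(mem_grp.1 hi).2] at this; omega) h.hL h.F.hnm

theorem leafQ_gd (h0 : M.rest C S = ∅) (hS : S.Prime) {ps : List ℕ} (hps : ∀ r, r.Prime → r ∣ C → r ∈ ps) :
    Gd M s.sl fun k => leafQ K k s S ps C := by
  refine (placeF_gd h N hS (fu := true) (by simp [h0])).mono fun k hk => ?_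
  rw [leafQ, imp_iff, imp_iff, and_iff, imp_iff, dv_iff, dv_iff, ble_iff, ble_iff, prodL_eq] at hk
  have := hk N.sdvd (loS_le N (Nat.zero_le _))
  have h3 : #(M.grp S C) = s.sl := by rw [h.sl, N.card_eq, h0]; simp
  rw [h3]
  exact this.2 (dvd_prod_pow N.pos.ne' this.1 hps)

theorem leafP_gd (h0 : M.rest C S = ∅) (hS : S.Prime) {ps : List ℕ} (hps : ∀ r, r.Prime → r ∣ C → r ∈ ps) :
    Gd M s.sl fun k => leafP K k s S ps := by
  obtain ⟨w, h1, h2, h3⟩ := leaf_ex h N h0
  refine (leafQ_gd h N h0 hS hps).mono fun k hk => h3 _ ?_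
  exact smo_of (fun v hv => (dv_iff _ _).2 (hv.trans h1)) ps 1 w (one_mul w).symm
    (by rintro rfl; exact N.pos.ne' (by simpa using h2)) (fun r hr hd => hps r hr (hd.trans h2)) hk

theorem leaves_gd {nd : List ℕ} (D : Nd s nd) (h0 : M.rest C S = ∅) :
    Gd M s.sl fun k => leaves K k s nd := by
  obtain ⟨i, hi⟩ := N.ne
  have hS : S.Prime := by
    rcases M.typ i with h1 | ⟨p, q, hp, hq, hpq, h1⟩
    · exact (mem_grp.1 hi).1 ▸ h1
    · have := (Nx.part N hp hq hpq.ne ((mem_grp.1 hi).1.symm.trans h1) hi).1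
      simp [h0] at this
  have h1 : ∀ d ∈ nd, d = S := fun d hd => by
    by_contra h1
    obtain ⟨j, hj, -⟩ := D.ex' h N hd h1
    simp [h0] at hj
  rcases nd with _ | ⟨d, _ | ⟨d', l⟩⟩
  · have hp : ∀ r, r.Prime → r ∣ C → r = S := fun r hr hd => D.pure h N hS (by simp) hr hd
    have hp' : ∀ r, r.Prime → r ∣ C → r ∈ [S] := fun r hr hd => by simp [hp r hr hd]
    by_cases h2 : S ∣ s.R
    · refine (leafP_gd h N h0 hS hp').mono fun k hk => ?_
      have := ((and_iff _ _).1 hk).1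
      rw [allL_iff] at this
      exact this S ((h.F.hfl S hS h2).resolve_left fun h3 =>
        h.F.hR1 S hS h3 i (N.sub hi) (mem_grp.1 hi).1)
    · obtain ⟨w, h3, h4, h5⟩ := leaf_ex h N h0
      have hw : w = 1 := by
        by_contra h6
        have h7 := hp _ (Nat.minFac_prime h6) ((Nat.minFac_dvd w).trans h4)
        obtain ⟨j, h8, h9⟩ := h.bp S hS (h7 ▸ (Nat.minFac_dvd w).trans h3)
        exact (h.F.kn j h8 S hS h9).elim h2 fun h10 => by simpa using (D.mem S).2 (Or.inl h10)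
      refine (leafQ_gd h N h0 hS hp').mono fun k hk => ?_
      have := h5 _ (hw ▸ ((and_iff _ _).1 hk).2)
      rw [leafN, imp_iff, beq_iff] at this
      have h8 := this (Nat.coprime_of_dvd fun r hr h6 h7 => h2 (hp r hr h6 ▸ h7))
      exact minF_of (f := fun S => leafQ K k s S [S] C) h8 hS N.sdvd N.pos.ne' hp
  · obtain rfl := h1 d List.mem_cons_self
    obtain ⟨l, h2, h3, h4⟩ := cofK_eq d s.un [d]
    refine (leafP_gd h N h0 hS (ps := l) fun r hr hd => ?_).mono fun k hk => (h4 _).symm.trans hk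
    rcases N.primes h.U hS hr hd with rfl | ⟨e, he, h6, rfl, -⟩
    · exact h2 _ List.mem_cons_self
    · exact h3 e he h6
  · have := D.nodup
    simp [h1 d (by simp), h1 d' (by simp)] at this

theorem inN_gd (hK : K ≤ 11) {nd : List ℕ} (D : Nd s nd) (h0 : (M.rest C S).Nonempty) {lo hi : ℕ}
    (hlo : lo ≤ C) (hhi : C ≤ hi) (hn : S ∉ nd) :
    1 ≤ s.sl - nd.length ∧ Gd M s.sl fun k => inN K k s nd (s.sl - nd.length) lo hi := by
  have h1 := cnt h N D.nodup fun d hd => D.ex' h N hd (by rintro rfl; exact hn hd)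
  have h2 := N.m_pos
  have h3 : #(M.grp S C) < s.sl := by have := h0.card_pos; rw [h.sl, N.card_eq]; omega
  have hSh : S ≤ hi := (Nat.le_of_dvd N.pos N.sdvd).trans hhi
  refine ⟨by omega, ?_⟩
  obtain ⟨i, hi'⟩ := N.ne
  rcases M.typ i with hS | ⟨p, q, hp, hq, hpq, hS⟩
  · rw [(mem_grp.1 hi').1] at hS
    refine (candN_gd h N D hS hn (mA := s.sl - nd.length - 1)
      (mx := if s.sl ≤ s.sl - nd.length then s.sl - 1 else s.sl - nd.length) hlo hhi
      (by split_ifs <;> omega) fun h4 j hj h5 => ?_).mono fun k hk => ?_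
    · have := cnt h N (List.nodup_cons.2 ⟨hn, D.nodup⟩) (List.forall_mem_cons.2 ⟨⟨j, hj, h5⟩,
        fun d hd => D.ex' h N hd (by rintro rfl; exact hn hd)⟩)
      simp only [List.length_cons] at this
      omega
    · rw [inN, and_iff, force_eq, force_eq, if_eq] at hk
      simp only [ble_iff] at hk
      refine allPr2_of hk.1 hS hSh ?_
      by_cases h4 : S * S ∣ C
      · exact Or.inr ((Nat.le_of_dvd N.pos h4).trans hhi)
      · obtain ⟨-, e, h5, -, h6, -⟩ := Nx.one N hS h4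
        left
        have : e ≤ 10 := by omega
        interval_cases e <;> omega
  · rw [(mem_grp.1 hi').1] at hS
    have h4 := D.cntC h N hp hq hpq.ne hS
    have h5 : 3 ≤ s.sl := by
      have a1 := Nx.part N hp hq hpq.ne hS hi'
      have a2 := Nx.part N hq hp hpq.ne' (hS.trans (mul_comm _ _)) hi'
      have := cnt h N (l := [p, q]) (by simp [hpq.ne]) (by simpa using ⟨⟨_, a1⟩, ⟨_, a2⟩⟩)
      simp only [List.length_cons, List.length_nil] at this
      omega
    have G1 := candC_gd h N D hp hq hpq.ne hS hlo hhi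
    have G2 := candC_gd h N D hq hp hpq.ne' (hS.trans (mul_comm _ _)) hlo hhi
    have b1 : q ≤ Nat.div hi p := (Nat.le_div_iff_mul_le hp.pos).2 (by rw [mul_comm, ← hS]; exact hSh)
    have b2 : p ≤ Nat.div hi q := (Nat.le_div_iff_mul_le hq.pos).2 (by rw [← hS]; exact hSh)
    have red : ∀ k, inN K k s nd (s.sl - nd.length) lo hi = true →
        inC k s nd (s.sl - nd.length) lo hi = true := fun k hk => by
      rw [inN, and_iff, imp_iff, ble_iff] at hk
      exact hk.2 h5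
    by_cases c1 : s.sl - nd.length = 1
    · refine G1.mono fun k hk => ?_
      have := red k hk
      rw [inC, if_eq, if_pos (by rwa [beq_iff]), allL_iff] at this
      have := this p (by by_contra h6; rw [if_neg h6] at h4; omega)
      rw [allL_iff] at this
      have := this q (by by_contra h6; rw [if_neg h6] at h4; omega)
      rw [cLt, or_iff, ble_iff] at this
      exact this.resolve_left (by omega)
    by_cases c2 : s.sl - nd.length = 2
    · by_cases c3 : p ∈ nd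
      · refine G1.mono fun k hk => ?_
        have := red k hk
        rw [inC, if_eq, if_neg (by rwa [beq_iff]), if_eq, if_pos (by rwa [beq_iff]), allL_iff] at this
        have := allPr_of (this p c3) hq b1
        rw [cNe, or_iff, beq_iff] at this
        exact this.resolve_left (by omega)
      · refine G2.mono fun k hk => ?_
        have := red k hk
        rw [inC, if_eq, if_neg (by rwa [beq_iff]), if_eq, if_pos (by rwa [beq_iff]), allL_iff] at this
        have := allPr_of (this q (by by_contra h6; rw [if_neg h6, if_neg c3] at h4; omega)) hp b2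
        rw [cNe, or_iff, beq_iff] at this
        exact this.resolve_left (by omega)
    · refine G1.mono fun k hk => ?_
      have := red k hk
      rw [inC, if_eq, if_neg (by rwa [beq_iff]), if_eq, if_neg (by rwa [beq_iff])] at this
      have h6 : p * p ≤ hi := le_trans (by rw [hS]; exact Nat.mul_le_mul_left _ hpq.le) hSh
      have := allPr_of (allPr2_of this hp (le_trans (Nat.le_mul_self p) h6) (Or.inr h6)) hq b1
      rw [cLt, or_iff, ble_iff] at this
      exact this.resolve_left (by omega)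

theorem in3_gd (hK : K ≤ 11) {nd : List ℕ} (D : Nd s nd) (h0 : (M.rest C S).Nonempty) {lo hi : ℕ}
    (hlo : lo ≤ C) (hhi : C ≤ hi) : Gd M s.sl fun k => in3 K k s nd (s.sl - nd.length) lo hi := by
  by_cases hn : S ∈ nd
  · have h1 := cnt h N (D.nodup.erase S) fun d hd => by
      rw [D.nodup.mem_erase_iff] at hd; exact D.ex' h N hd.2 hd.1
    rw [List.length_erase_of_mem hn] at h1
    have h2 := List.length_pos_of_mem hn
    have h3 : #(M.grp S C) < s.sl := by have := h0.card_pos; rw [h.sl, N.card_eq]; omega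
    refine (candP_gd h N (D.ex h hn).1 (mA := s.sl - nd.length)
      (mx := if s.sl ≤ s.sl - nd.length + 1 then s.sl - 1 else s.sl - nd.length + 1) hlo hhi
      (by split_ifs <;> omega) fun h4 j hj h5 => ?_).mono fun k hk => ?_
    · have := cnt h N D.nodup fun d hd => by
        by_cases h6 : d = S
        · exact ⟨j, hj, h6 ▸ h5⟩
        · exact D.ex' h N hd h6
      omega
    · rw [in3, imp_iff, and_iff, force_eq, if_eq, ble_iff, inD, allL_iff] at hk
      simp only [ble_iff] at hk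
      exact (hk (hlo.trans hhi)).1 S hn
  · obtain ⟨h1, h2⟩ := inN_gd h N hK D h0 hlo hhi hn
    refine h2.mono fun k hk => ?_
    rw [in3, imp_iff, and_iff, imp_iff, ble_iff, ble_iff] at hk
    exact (hk (hlo.trans hhi)).2 h1

theorem inner_gd (hK : K ≤ 11) {nd : List ℕ} (D : Nd s nd) (h0 : (M.rest C S).Nonempty) :
    Gd M s.sl fun k => inner K k s nd (s.sl - nd.length) := by
  obtain ⟨t, ht⟩ := N.dvd
  have h1 := h.ab
  have h2 : n / C = t := by rw [ht, Nat.mul_div_cancel_left _ N.pos]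
  have h3 : ∑ i ∈ M.rest s.lc s.ls, n / M.c i ≤ s.sl * t := by
    rw [h.sl, ← smul_eq_mul, ← h2]
    exact sum_le_card_nsmul _ _ _ fun i hi => Nat.div_le_div_left (N.le hi) N.pos
  have h4 : s.a * C * t ≤ s.b * (s.sl * t + 1) := by
    rw [mul_assoc, ← ht, h1]; exact Nat.mul_le_mul_left _ (by omega)
  have h5 : 5 ≤ t := by have := Nx.five N; have := N.pos; nlinarith
  have h6 : s.L ≤ C * t := ht ▸ Nat.le_of_dvd (Nat.pos_of_ne_zero M.npos) h.hL
  have a1 : C ≤ Nat.div (Nat.mul (Nat.succ (Nat.mul 5 s.sl)) s.b) (Nat.mul 5 s.a) := by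
    refine (Nat.le_div_iff_mul_le (Nat.mul_pos (by norm_num) h.apos)).2 ?_
    refine Nat.le_of_mul_le_mul_right (c := t) ?_ (by omega)
    show C * (5 * s.a) * t ≤ (5 * s.sl + 1) * s.b * t
    nlinarith [Nat.mul_le_mul_left s.b h5]
  have a2 : ¬ s.a * s.L ≤ s.b → C ≤ hi2 s.sl s.a s.b s.L := fun h7 => by
    refine (Nat.le_div_iff_mul_le (Nat.sub_pos_of_lt (not_le.1 h7))).2 ?_
    refine Nat.le_of_mul_le_mul_right (c := t) ?_ (by omega)
    show C * (s.a * s.L - s.b) * t ≤ s.sl * s.b * s.L * t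
    have h8 := Nat.mul_le_mul_right s.L h4
    have h9 := Nat.mul_le_mul_left s.b h6
    zify [(not_le.1 h7).le] at h8 h9 ⊢
    nlinarith
  have a3 : maxB s.lc (Nat.succ (Nat.div s.b s.a)) ≤ C := by
    obtain ⟨i, hi⟩ := N.ne
    have b1 := mem_rest.1 (N.sub hi)
    rw [(mem_grp.1 hi).2] at b1
    have b2 : s.b / s.a < C := (Nat.div_lt_iff_lt_mul h.apos).2 (by
      have := h.lt N
      have := N.m_pos
      nlinarith)
    rw [maxB, if_eq]
    split_ifs
    · exact b2
    · omega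
  refine (in3_gd h N hK D h0 a3 (hi := IF Nat.ble (Nat.mul s.a s.L) s.b THEN _ ELSE
    force (hi2 s.sl s.a s.b s.L) (minB _)) ?_).mono fun k hk => by
      simpa only [inner, in1, in2, force_eq] using hk
  rw [if_eq, force_eq, minB, if_eq]
  split_ifs with h7
  · exact a1
  · exact a1
  · exact a2 (by rwa [ble_iff] at h7)

omit N

theorem step_gd (hK : K ≤ 11) (h0 : 0 < s.sl) : Gd M s.sl fun k => step K k s := by
  obtain ⟨S, C, N⟩ := exists_nx (card_pos.1 (h.sl ▸ h0))
  obtain ⟨nd, h1, h2, h3⟩ := ndK_eq s.un s.nf h.F.nf2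
  have D : Nd s nd := ⟨h1, h2⟩
  have key : Gd M s.sl fun k => step5 K k nd nd.length s.sl s := by
    rcases (M.rest C S).eq_empty_or_nonempty with h4 | h4
    · exact (leaves_gd h N D h4).mono fun k hk => ((and_iff _ _).1 hk).1
    · refine (inner_gd h N hK D h4).mono fun k hk => ?_
      have := ((and_iff _ _).1 hk).2
      rw [imp_iff, ble_iff, force_eq] at this
      refine this ?_
      have := h4.card_pos
      have := N.m_pos
      rw [h.sl, N.card_eq]; omega
  refine key.mono fun k hk => ?_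
  rw [step, h3, step1, force_eq, force_eq, lenL_eq, step3, imp_iff, imp_iff, force_eq, force_eq, step4,
    imp_iff, or_iff, or_iff, beq_iff, ble_iff, ble_iff, ble_iff] at hk
  refine hk (h.sl ▸ length_le h1 fun d hd => (D.ex h hd).2)
    (h.F.hnm.imp id (Nat.le_of_dvd (Nat.pos_of_ne_zero M.npos) h.hL).trans) (h.F.hnm.imp id fun h4 => ?_)
  have h5 := h.lt N
  have h6 := N.m_pos
  have h7 := Nat.le_of_dvd (Nat.pos_of_ne_zero M.npos) N.dvd
  show s.b + 1 ≤ s.a * s.nm
  nlinarith [Nat.mul_le_mul_left s.a (h7.trans h4)]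

omit h in
/-- the final description of the classes -/
def Fin (M : Model ι K n cm) (ok : ℕ → ℕ → List Gp → Bool) : Prop :=
  ∃ cl, InvC M ∅ cl ∧ ok n (M.c (M.z 2)) cl = true

theorem fin_of (h0 : s.sl = 0) {ok : ℕ → ℕ → List Gp → Bool} (hk : fin ok s = true) : Fin M ok := by
  have h1 : M.rest s.lc s.ls = ∅ := card_eq_zero.1 (h.sl ▸ h0)
  obtain ⟨nd, a1, a2, a3⟩ := ndK_eq s.un s.nf h.F.nf2
  have D : Nd s nd := ⟨a1, a2⟩
  obtain rfl : nd = [] := List.eq_nil_iff_forall_not_mem.2 fun d hd => by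
    obtain ⟨-, i, hi, -⟩ := D.ex h hd
    simp [h1] at hi
  have hb : s.b = n := by
    have h2 := h.ab
    rw [h1, sum_empty, zero_add, mul_one] at h2
    have h3 : s.a = 1 := h.cop.eq_one_of_dvd ⟨n, h2.symm⟩
    rw [← h2, h3, one_mul]
  rw [fin, a3] at hk
  have hk' : force s.b _ = true := hk
  rw [force_eq, hb, imp_iff, imp_iff, imp_iff, imp_iff, dv_iff, dv_iff, or_iff, beq_iff, ble_iff,
    h.F.hcz (by simp [h1])] at hk'
  have C := h.C
  rw [h1] at C
  refine ⟨s.cl, C, hk' h.hL ?_ h.F.hnm ?_⟩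
  · rw [Nat.dvd_iff_prime_pow_dvd_dvd]
    intro p a hp ha
    rcases Nat.eq_zero_or_pos a with rfl | h2
    · simp
    · exact h.F.hQ p hp ((h.F.hZ p hp ((dvd_pow_self p h2.ne').trans ha)).1 (by simp [h1])) a ha
  · rw [nnB, allL_iff]
    intro p hp
    have hp' : p.Prime := by simp only [List.mem_cons, List.not_mem_nil, or_false] at hp; rcases hp with
      rfl | rfl | rfl | rfl | rfl | rfl | rfl <;> norm_num
    rw [imp_iff, dv_iff, ble_iff]
    intro hn
    obtain ⟨a, -, ha⟩ := (Nat.dvd_prime_pow hp').1 (Nat.gcd_dvd_right n (p ^ 64))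
    have := M.nn p a hp' hn (ha ▸ Nat.gcd_dvd_left _ _)
    refine (le_of_eq ha).trans (this.trans ?_)
    have key : ∀ cl : List Gp, (∀ g ∈ cl, g.m = #(M.grp g.s g.c)) →
        ∑ j with M.s j = p ∧ ∃ g ∈ cl, g.s = M.s j ∧ g.c = M.c j, n / M.c j ≤
          List.rec (motive := fun _ => ℕ) 0 (fun g _ r => IF Nat.beq g.s p THEN
            Nat.add (Nat.mul g.m (Nat.div n g.c)) r ELSE r) cl := by
      intro cl hcl
      induction cl with
      | nil => simp
      | cons g cl ih =>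
        have ih := ih fun g hg => hcl g (List.mem_cons_of_mem _ hg)
        show _ ≤ (IF Nat.beq g.s p THEN Nat.add (Nat.mul g.m (Nat.div n g.c)) _ ELSE _)
        rw [if_eq]
        split_ifs with h2
        · refine le_trans (sum_le_sum_of_subset (t := M.grp g.s g.c ∪
            univ.filter fun j => M.s j = p ∧ ∃ g ∈ cl, g.s = M.s j ∧ g.c = M.c j) fun j hj => ?_)
            (le_trans (Nat.le.intro sum_union_inter) (Nat.add_le_add (le_of_eq ?_) ih))
          · simp only [mem_filter, mem_univ, true_and, List.mem_cons, exists_eq_or_imp, mem_union,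
              mem_grp] at hj ⊢
            exact hj.2.imp (fun a => ⟨a.1.symm, a.2.symm⟩) fun a => ⟨hj.1, a⟩
          · rw [sum_congr rfl fun i hi => by rw [(mem_grp.1 hi).2], sum_const, smul_eq_mul,
              hcl g List.mem_cons_self]
            rfl
        · refine le_trans (le_of_eq (sum_congr ?_ fun _ _ => rfl)) ih
          ext j
          rw [beq_iff] at h2
          simp only [mem_filter, mem_univ, true_and, List.mem_cons, exists_eq_or_imp]
          exact and_congr_right fun h3 => or_iff_right fun h4 => h2 (h4.1.trans h3)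
    refine le_trans (le_of_eq (sum_congr ?_ fun _ _ => rfl)) (key s.cl fun g hg => (C.cl1 g hg).1)
    ext j
    simp [C.cl2 j (by simp)]

omit h in
theorem srch_of (hK : K ≤ 11) {ok : ℕ → ℕ → List Gp → Bool} (f : ℕ) : ∀ s, Inv M s →
    srch K ok f s = true → Fin M ok := by
  induction f with
  | zero => intro s _ hk; exact absurd hk (by simp [srch])
  | succ f ih =>
    intro s h hk
    have hk' : (IF Nat.beq s.sl 0 THEN fin ok s ELSE step K (srch K ok f) s) = true := hk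
    rw [if_eq] at hk'
    split_ifs at hk' with h1
    · exact fin_of h ((beq_iff _ _).1 h1) hk'
    · obtain ⟨s', h2, -, h3⟩ := step_gd h hK (Nat.pos_of_ne_zero (by rwa [beq_iff] at h1))
      exact ih s' h2 (h3 _ hk')

theorem srchG_of (hK : K ≤ 11) (θ : ℕ) : ∃ s', Inv M s' ∧ ∀ m g f,
    srchG K θ m (hash s' % m) g f s = true → g s' = true := by
  induction hs : s.sl using Nat.strong_induction_on generalizing s with
  | _ a ih =>
  have e : ∀ m r g f, srchG K θ m r g (f + 1) s = (IF Nat.ble s.sl θ THEN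
    ((Nat.beq (Nat.mod (hash s) m) r) IMP g s) ELSE step K (srchG K θ m r g f) s) := fun _ _ _ _ => rfl
  by_cases h1 : s.sl ≤ θ
  · refine ⟨s, h, fun m g f hk => ?_⟩
    rcases f with _ | f
    · exact absurd hk (by simp [srchG])
    · rw [e, if_eq, if_pos (by rwa [ble_iff]), imp_iff, beq_iff] at hk
      exact hk rfl
  · obtain ⟨s', h2, h3, h4⟩ := step_gd h hK (by omega)
    obtain ⟨s'', h5, h6⟩ := ih _ (hs ▸ h3) h2 rfl
    refine ⟨s'', h5, fun m g f hk => ?_⟩
    rcases f with _ | f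
    · exact absurd hk (by simp [srchG])
    · rw [e, if_eq, if_neg (by rwa [ble_iff])] at hk
      exact h6 m g f (h4 _ hk)

omit h in
theorem inv0 (M : Model ι K n cm) {L nm : ℕ} (hL : L ∣ n) (hnm : nm = 0 ∨ n ≤ nm) :
    Inv M (st0 K cm L nm) := by
  have h1 : M.rest cm (cm + 1) = univ := eq_univ_of_forall fun i => by
    have := M.cmin i
    have := Nat.le_of_dvd (M.c_pos i) (M.sdvd i)
    rw [mem_rest]; omega
  have h2 : ∀ p : ℕ, p.Prime → ¬ p ∣ 1 := fun p hp => hp.not_dvd_one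
  refine ⟨?_, ?_, Nat.coprime_one_left _, Nat.one_pos, hL, fun r hr h => absurd h (h2 r hr), ?_, ?_, ?_⟩ <;>
    simp only [st0, h1]
  · rw [card_univ, ← M.card]; rfl
  · rw [M.sum]
  · exact ⟨by simp, by simp, by simp⟩
  · exact ⟨fun p hp h => absurd h (h2 p hp), fun p hp _ => by simp [hp.ne_one],
      fun p hp h => absurd h (h2 p hp), hnm, by simp, by simpa using ⟨Nat.prime_two, M.two⟩, by simp, by simp,
      fun p hp h => absurd h (h2 p hp)⟩
  · exact ⟨by simp, by simp⟩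

end CfsgLib.FewCl
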