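import Mathlib
import Cfsg.Agent.Lib.FewCl.Elt
import Cfsg.Agent.Lib.FewCl.Step
import Cfsg.Agent.Lib.WAb.Idx
import Cfsg.Agent.Lib.SmallSimple.Check
import Cfsg.Agent.Lib.ChTab.Pair

/-! Simple groups with few conjugacy classes: the numerical model of a simple group. -/

set_option autoImplicit false

namespace CfsgLib.FewCl

open Finset Subgroup CfsgLib.Fgs CfsgLib.DefectOne CfsgLib.DefectOne.B43
open scoped _root_.Classical CfsgLib.Char

/-- the non-identity classes -/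
abbrev Cl (G : Type*) [Group G] : Type _ := {C : ConjClasses G // C ≠ 1}

variable {G : Type*} [Group G] [Finite G]

noncomputable instance instFintypeCl : Fintype (Cl G) := Fintype.ofFinite _

/-- a representative -/
noncomputable def rep (i : Cl G) : G := i.1.out

omit [Finite G] in
theorem mk_rep (i : Cl G) : ConjClasses.mk (rep i) = i.1 := i.1.out_eq

omit [Finite G] in
theorem mk_eq_one {x : G} : ConjClasses.mk x = 1 ↔ x = 1 := by
  rw [ConjClasses.one_eq_mk_one, ConjClasses.mk_eq_mk_iff_isConj, isConj_one_left]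

omit [Finite G] in
theorem rep_ne (i : Cl G) : rep i ≠ 1 := fun h => i.2 (mk_rep i ▸ mk_eq_one.2 h)

omit [Finite G] in
theorem rep_inj {i j : Cl G} (h : IsConj (rep i) (rep j)) : i = j :=
  Subtype.ext (by rw [← mk_rep, ← mk_rep, ConjClasses.mk_eq_mk_iff_isConj.2 h])

/-- the class of `x` (`i` if `x = 1`) -/
noncomputable def cls (x : G) (i : Cl G) : Cl G := if h : x = 1 then i else ⟨.mk x, mt mk_eq_one.1 h⟩

omit [Finite G] in
theorem conj_cls {x : G} (h : x ≠ 1) (i : Cl G) : IsConj x (rep (cls x i)) := by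
  rw [← ConjClasses.mk_eq_mk_iff_isConj, mk_rep, cls, dif_neg h]

omit [Finite G] in
theorem exists_rep {x : G} (h : x ≠ 1) : ∃ i : Cl G, IsConj x (rep i) :=
  ⟨_, conj_cls h ⟨.mk x, mt mk_eq_one.1 h⟩⟩

theorem card_Cl : Fintype.card (Cl G) + 1 = Nat.card (ConjClasses G) := by
  have := Fintype.ofFinite (ConjClasses G)
  rw [Nat.card_eq_fintype_card, ← Nat.sub_add_cancel (Fintype.card_pos (α := ConjClasses G))]
  have h := Fintype.card_subtype_compl (fun C : ConjClasses G => C = 1)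
  rw [Fintype.card_subtype_eq] at h
  rw [← h]

theorem card_eq_sum (P : G → Prop) (hP : ∀ x y, IsConj x y → P x → P y) (h1 : ¬ P 1) {s : Finset G}
    {t : Finset (Cl G)} (hs : ∀ x, x ∈ s ↔ P x) (ht : ∀ i, i ∈ t ↔ P (rep i)) :
    #s = ∑ i ∈ t, Nat.card G / cn (rep i) := by
  have := Fintype.ofFinite G
  have h2 : ∀ x : G, IsConj x (ConjClasses.mk x).out := fun x =>
    ConjClasses.mk_eq_mk_iff_isConj.1 (ConjClasses.mk x).out_eq.symm
  rw [show s = univ.filter fun x => P (ConjClasses.mk x).out from ext fun x => by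
    simpa [hs] using ⟨hP _ _ (h2 x), hP _ _ (h2 x).symm⟩, card_cls fun C => P C.out]
  refine (sum_bij (fun i _ => i.1) (fun i hi => mem_filter.2 ⟨mem_univ _, (ht i).1 hi⟩)
    (fun _ _ _ _ => Subtype.ext) (fun C hC => ⟨⟨C, ?_⟩, (ht _).2 (mem_filter.1 hC).2, rfl⟩) fun _ _ => rfl).symm
  rintro rfl
  exact h1 (hP _ _ (h2 1).symm (mem_filter.1 hC).2)

/-- the class of the `p`-part -/
noncomputable def ptc (i : Cl G) (p : ℕ) : Cl G := cls (rep i ^ pex G p) i

section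
variable {u : Cl G} {p : ℕ} (hp : p.Prime) (hu : rad (rep u) = p)
include hp hu

theorem ptc_iff {j : Cl G} : ptc j p = u ↔ IsConj (rep u) (rep j ^ pex G p) := by
  by_cases h : rep j ^ pex G p = 1
  · rw [ptc, cls, dif_pos h, h, isConj_one_left]
    refine iff_of_false ?_ (rep_ne u)
    rintro rfl
    exact rep_ne j ((pex_self hp ((rad_prime hp).1 hu).2).symm.trans h)
  · exact ⟨fun h1 => h1 ▸ (conj_cls h j).symm, fun h1 => rep_inj ((conj_cls h j).symm.trans h1.symm)⟩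

theorem card_pt [Fintype G] (P : G → Prop) [DecidablePred P] (hP : ∀ x y, IsConj x y → P x → P y) {t : Finset (Cl G)}
    (ht : ∀ j, j ∈ t ↔ P (rep j) ∧ ptc j p = u) :
    ∑ j ∈ t, cn (rep u) / cn (rep j) = #{x : G | P x ∧ x ^ pex G p = rep u} := by
  refine Nat.eq_of_mul_eq_mul_left (Nat.div_pos (Nat.le_of_dvd Nat.card_pos (cn_dvd (rep u))) (cn_pos _))
    (Eq.symm ?_)
  simp only [ptc_iff hp hu] at ht
  rw [← card_sec P hP, card_eq_sum (fun x => P x ∧ IsConj (rep u) (x ^ pex G p))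
    (fun x y h h1 => ⟨hP _ _ h h1.1, h1.2.trans (h.pow _)⟩)
    (fun h => rep_ne u (by simpa using h.2)) (fun x => by simp) ht, mul_sum]
  refine sum_congr rfl fun j hj => (Nat.div_mul_div (cn_dvd _) ?_).symm
  rw [cn_conj ((ht j).1 hj).2]
  exact card_dvd_of_le (cent_le_cent_pow _ _)

theorem frob_aux {q a : ℕ} (hq : q.Prime) (hne : q ≠ p) (h1 : q ^ a ∣ cn (rep u))
    (h2 : ¬ q ∣ cn (rep u) / q ^ a) {t : Finset (Cl G)} (ht : ∀ j, j ∈ t ↔ rad (rep j) = p * q ∧ ptc j p = u) :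
    q ^ a ∣ 1 + ∑ j ∈ t, cn (rep u) / cn (rep j) := by
  have := Fintype.ofFinite G
  have h3 := Count.frobenius_one h1
  have hu' := ((rad_prime hp).1 hu).2
  have h4 : ∀ v : G, v ^ q ^ a = 1 → (∃ k, orderOf v = q ^ k) ∧ ¬ p ∣ orderOf v := fun v hv => by
    obtain ⟨k, -, hk⟩ := (Nat.dvd_prime_pow hq).1 (orderOf_dvd_of_pow_eq_one hv)
    exact ⟨⟨k, hk⟩, fun h => hne.symm ((Nat.prime_dvd_prime_iff_eq hp hq).1 (hp.dvd_of_dvd_pow (hk ▸ h)))⟩
  rw [card_pt hp hu (fun x => rad x = p * q) (fun x y h h' => rad_conj h ▸ h') ht, add_comm,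
    ← card_insert_of_notMem (a := rep u) (by
      simpa [hu] using fun h => absurd h (lt_mul_of_one_lt_right hp.pos hq.one_lt).ne)]
  convert h3 using 1
  rw [Set.ncard_eq_toFinset_card']
  refine (card_bij (fun v _ => rep u * v.1) (fun v hv => ?_)
    (fun _ _ _ _ h => Subtype.ext (mul_left_cancel h)) fun x hx => ?_).symm
  · have h5 := h4 v.1 (by simpa [Subtype.ext_iff] using hv)
    have h6 := mem_cent_iff.1 v.2
    by_cases h7 : v.1 = 1
    · simp [h7]
    · exact mem_insert_of_mem (mem_filter.2 ⟨mem_univ _, (rad_mul hp hu h5.2 h6 hq hne.symm).2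
        ((rad_prime hq).2 ⟨h7, h5.1⟩), pex_mul hp hu' h5.2 h6⟩)
  · rcases mem_insert.1 hx with rfl | hx
    · exact ⟨1, by simp, by simp⟩
    obtain ⟨-, h5, h6⟩ := mem_filter.1 hx
    obtain ⟨-, v, h7, h8, h9⟩ := pex_spec hp x
    rw [h6] at h8 h9
    obtain ⟨-, k, hk⟩ := (rad_prime hq).1 ((rad_mul hp hu h7 h8 hq hne.symm).1 (h9 ▸ h5))
    refine ⟨⟨v, mem_cent_iff.2 h8⟩, ?_, h9⟩
    have h10 := orderOf_dvd_natCard (⟨v, mem_cent_iff.2 h8⟩ : centralizer ({rep u} : Set G))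
    rw [Set.mem_toFinset, Set.mem_ofPred_eq, ← orderOf_dvd_iff_pow_eq_one]
    rw [Subgroup.orderOf_mk, hk] at h10 ⊢
    exact (Nat.Coprime.pow_left k ((Nat.Prime.coprime_iff_not_dvd hq).2 h2)).dvd_of_dvd_mul_right
      (h10.trans (Nat.mul_div_cancel' h1).symm.dvd)

theorem bnd_aux {t : Finset (Cl G)}
    (ht : ∀ j, j ∈ t ↔ (∃ q, q.Prime ∧ q ≠ p ∧ rad (rep j) = p * q) ∧ ptc j p = u) :
    (1 + ∑ j ∈ t, cn (rep u) / cn (rep j)) * p ≤ cn (rep u) := by
  have := Fintype.ofFinite G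
  have hu' := ((rad_prime hp).1 hu).2
  rw [card_pt hp hu (fun x => ∃ q, q.Prime ∧ q ≠ p ∧ rad x = p * q) (fun x y h h' => rad_conj h ▸ h') ht,
    add_comm, ← card_insert_of_notMem (a := rep u) (by
      simpa [hu] using fun q hq _ h => absurd h (lt_mul_of_one_lt_right hp.pos hq.one_lt).ne)]
  set Y := insert (rep u) (univ.filter fun x => (∃ q, q.Prime ∧ q ≠ p ∧ rad x = p * q) ∧ x ^ pex G p = rep u)
  have h1 : ∀ x ∈ Y, x ^ pex G p = rep u := fun x hx => by
    rcases mem_insert.1 hx with rfl | hx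
    · exact pex_self hp hu'
    · exact (mem_filter.1 hx).2.2
  have h2 : ∀ x ∈ Y, Commute x (rep u) := fun x hx => h1 x hx ▸ Commute.self_pow _ _
  have h3 : ∀ x ∈ Y, ∀ i, (x * rep u ^ i) ^ pex G p = rep u * rep u ^ i := fun x hx i => by
    rw [((h2 x hx).pow_right i).mul_pow, h1 x hx, pow_right_comm, pex_self hp hu']
  have h4 : p ≤ orderOf (rep u) := Nat.le_of_dvd (orderOf_pos _) ((dvd_rad hp).1 hu.symm.dvd)
  conv_lhs => rw [← card_range p, ← card_product]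
  rw [cn, Nat.card_eq_fintype_card, Fintype.card_subtype]
  refine card_le_card_of_injOn (fun x => x.1 * rep u ^ x.2) (fun x hx => ?_) fun x hx y hy h => ?_
  · exact mem_filter.2 ⟨mem_univ _, mem_cent_iff.2
      ((h2 _ (mem_product.1 hx).1).symm.mul_right (Commute.self_pow _ _))⟩
  · obtain ⟨h5, h6⟩ := mem_product.1 hx
    obtain ⟨h7, h8⟩ := mem_product.1 hy
    have h9 : x.2 = y.2 := pow_injOn_Iio_orderOf ((mem_range.1 h6).trans_le h4) ((mem_range.1 h8).trans_le h4)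
      (mul_left_cancel ((h3 _ h5 _).symm.trans ((congrArg (· ^ pex G p) h).trans (h3 _ h7 _))))
    exact Prod.ext (mul_right_cancel (h.trans (by rw [h9]))) h9

theorem wit_aux {q : ℕ} (hq : q.Prime) (hne : q ≠ p) (h : q ∣ cn (rep u)) :
    ∃ j, rad (rep j) = p * q ∧ ptc j p = u := by
  have := Fact.mk hq
  obtain ⟨⟨v, hv⟩, h1⟩ := exists_prime_orderOf_dvd_card' q h
  rw [Subgroup.orderOf_mk] at h1
  have h2 : ¬ p ∣ orderOf v := fun h => hne.symm ((Nat.prime_dvd_prime_iff_eq hp hq).1 (h1 ▸ h))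
  have h3 := (rad_mul hp hu h2 (mem_cent_iff.1 hv) hq hne.symm).2 ((rad_prime hq).2
    ⟨by rintro rfl; exact hq.ne_one (by simpa using h1.symm), 1, by simpa using h1⟩)
  have h4 := pex_mul hp ((rad_prime hp).1 hu).2 h2 (mem_cent_iff.1 hv)
  obtain ⟨j, hj⟩ := exists_rep (x := rep u * v) fun h => rep_ne u (by rw [← h4, h, one_pow])
  exact ⟨j, rad_conj hj ▸ h3, (ptc_iff hp hu).2 (h4 ▸ hj.pow _)⟩

end

theorem pts_aux (i : Cl G) {p q : ℕ} (hp : p.Prime) (hq : q.Prime) (hne : p ≠ q) (h : rad (rep i) = p * q) :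
    rad (rep (ptc i p)) = p ∧ cn (rep i) ∣ cn (rep (ptc i p)) ∧
      (q * q ∣ cn (rep (ptc i p)) → q * q ∣ cn (rep i)) := by
  obtain ⟨h1, v, h2, h3, h4⟩ := pex_spec hp (rep i)
  have h5 : rep i ^ pex G p ≠ 1 := fun h5 => by
    rw [h5, one_mul] at h4
    exact h2 (h4 ▸ (dvd_rad hp).1 (h ▸ Dvd.intro _ rfl))
  have h6 := (rad_prime hp).2 ⟨h5, h1⟩
  rw [ptc, ← rad_conj (conj_cls h5 i), ← cn_conj (conj_cls h5 i)]
  refine ⟨h6, card_dvd_of_le (cent_le_cent_pow _ _), fun h7 => ?_⟩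
  have h8 := ((rad_prime hq).1 ((rad_mul hp h6 h2 h3 hq hne).1 (h4.symm ▸ h))).2
  have h9 := sq_dvd_cn hq (x := (⟨v, mem_cent_iff.2 h3⟩ : centralizer ({rep i ^ pex G p} : Set G)))
    (by simpa using h8) h7
  rw [cn, cent_subgroupOf, ← card_map_of_injective (subtype_injective _), subgroupOf_map_subtype, inf_comm,
    ← cent_mul_of_coprime h3 (ord_mul hp h1 h2 h3).2, h4] at h9
  exact h9

theorem sum_aux : ∑ i : Cl G, Nat.card G / cn (rep i) + 1 = Nat.card G := by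
  have := Fintype.ofFinite G
  rw [← card_eq_sum (· ≠ 1) (fun x y h h1 h2 => h1 (by simpa [h2] using h)) (by simp) (s := univ.erase 1)
    (by simp) (by simp [rep_ne]), card_erase_add_one (mem_univ _), card_univ, Nat.card_eq_fintype_card]

theorem typ_of {x : G} (h1 : x ≠ 1) (h : #(orderOf x).primeFactors ≤ 2) :
    (rad x).Prime ∨ ∃ p q, p.Prime ∧ q.Prime ∧ p < q ∧ rad x = p * q := by
  have h2 : 0 < #(orderOf x).primeFactors :=
    (Nat.nonempty_primeFactors.2 (by have := orderOf_pos x; have := mt orderOf_eq_one_iff.1 h1; omega)).card_pos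
  have hp : ∀ p ∈ (orderOf x).primeFactors, p.Prime := fun p => Nat.prime_of_mem_primeFactors
  rw [rad]
  rcases (by omega : #(orderOf x).primeFactors = 1 ∨ #(orderOf x).primeFactors = 2) with h3 | h3
  · obtain ⟨p, e⟩ := card_eq_one.1 h3
    rw [e] at hp ⊢
    exact Or.inl (by simpa using hp)
  · obtain ⟨p, q, h4, e⟩ := card_eq_two.1 h3
    rw [e] at hp ⊢
    rw [prod_pair h4]
    rcases lt_or_gt_of_ne h4 with h5 | h5
    · exact Or.inr ⟨p, q, hp p (by simp), hp q (by simp), h5, rfl⟩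
    · exact Or.inr ⟨q, p, hp q (by simp), hp p (by simp), h5, mul_comm _ _⟩

theorem two_primes (hK : Nat.card (ConjClasses G) ≤ 11) (h5 : ∀ x : G, x ≠ 1 → 5 ≤ cn x)
    (hn : 10 ≤ Nat.card G) (x : G) : #(orderOf x).primeFactors ≤ 2 := by
  by_contra h
  have h0 := (orderOf_pos x).ne'
  have h1 : 8 ≤ #(orderOf x).divisors := by
    rw [Nat.card_divisors h0]
    refine le_trans (Nat.pow_le_pow_right (n := 2) two_pos (not_le.1 h)) (pow_card_le_prod _ _ _ fun p hp => ?_)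
    exact Nat.succ_le_succ ((Nat.prime_of_mem_primeFactors hp).factorization_pos_of_dvd h0
      (Nat.dvd_of_mem_primeFactors hp))
  have h2 : 24 ≤ orderOf x := by
    by_contra h2
    exact absurd h1 ((by decide : ∀ m < 24, ¬ 8 ≤ #m.divisors) _ (not_le.1 h2))
  set A : Finset (Cl G) := univ.filter fun i => 24 ≤ cn (rep i)
  have h3 : #((orderOf x).divisors.erase 1) ≤ #A := by
    refine card_le_card_of_surjOn (fun i => orderOf (rep i)) fun d hd => ?_
    obtain ⟨h3, h4⟩ := mem_erase.1 hd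
    have h6 := orderOf_pow_orderOf_div h0 (Nat.dvd_of_mem_divisors h4)
    obtain ⟨i, hi⟩ := exists_rep (x := x ^ (orderOf x / d)) fun h => h3 (by rw [← h6, h, orderOf_one])
    refine ⟨i, mem_filter.2 ⟨mem_univ _, ?_⟩, (ord_conj hi).symm.trans h6⟩
    rw [← cn_conj hi]
    exact h2.trans ((Nat.le_of_dvd (cn_pos _) (ord_dvd_cn x)).trans (card_le_of_le (cent_le_cent_pow _ _)))
  rw [card_erase_of_mem (Nat.one_mem_divisors.2 h0)] at h3
  have h4 := sum_aux (G := G)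
  have h6 : ∀ (B : Finset (Cl G)) (m : ℕ), (∀ i ∈ B, m ≤ cn (rep i)) →
      (∑ i ∈ B, Nat.card G / cn (rep i)) * m ≤ #B * Nat.card G := fun B m hB => by
    rw [sum_mul, ← smul_eq_mul]
    exact sum_le_card_nsmul _ _ _ fun i hi =>
      (Nat.mul_le_mul_left _ (hB i hi)).trans (Nat.div_mul_le_self _ _)
  have h7 := h6 A 24 fun i hi => (mem_filter.1 hi).2
  have h8 := h6 Aᶜ 5 fun i _ => h5 _ (rep_ne i)
  have h9 := card_add_card_compl A
  have h10 := card_Cl (G := G)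
  rw [← sum_add_sum_compl A] at h4
  obtain ⟨a, ha⟩ : ∃ a, #A = a + 7 := ⟨#A - 7, by omega⟩
  have h11 : (a + #Aᶜ) * Nat.card G ≤ 3 * Nat.card G := Nat.mul_le_mul_right _ (by omega)
  rw [ha] at h7
  nlinarith [Nat.zero_le (a * Nat.card G)]

theorem comp_aux (h2 : ∀ x : G, #(orderOf x).primeFactors ≤ 2) {x : G} {p q r : ℕ} (hp : p.Prime)
    (hq : q.Prime) (hne : p ≠ q) (h : rad x = p * q) (hr : r.Prime) (hd : r ∣ cn x) : r ∣ rad x := by
  by_contra h1
  have := Fact.mk hr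
  obtain ⟨⟨v, hv⟩, h3⟩ := exists_prime_orderOf_dvd_card' r hd
  rw [Subgroup.orderOf_mk] at h3
  have h4 := (ord_mul hr ⟨1, by simpa using h3⟩ (mt (dvd_rad hr).2 h1) (mem_cent_iff.1 hv).symm).1
  have h5 : ({p, q, r} : Finset ℕ) ⊆ (orderOf (v * x)).primeFactors := by
    simp only [insert_subset_iff, singleton_subset_iff, Nat.mem_primeFactors, h4, h3]
    have h6 := mul_ne_zero hr.ne_zero (orderOf_pos x).ne'
    exact ⟨⟨hp, ((dvd_rad hp).1 (h ▸ Dvd.intro _ rfl)).mul_left _, h6⟩,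
      ⟨hq, ((dvd_rad hq).1 (h ▸ Dvd.intro_left _ rfl)).mul_left _, h6⟩, hr, Dvd.intro _ rfl, h6⟩
  have h6 := (card_le_card h5).trans (h2 _)
  rw [card_eq_three.2 ⟨p, q, r, hne, by rintro rfl; exact h1 (h ▸ Dvd.intro _ rfl),
    by rintro rfl; exact h1 (h ▸ Dvd.intro_left _ rfl), rfl⟩] at h6
  omega

theorem exists_z {p : ℕ} (i : Cl G) : ∃ z : Cl G, p.Prime → p ∣ Nat.card G →
    orderOf (rep z) = p ∧ ∀ a, p ^ a ∣ Nat.card G → p ^ a ∣ cn (rep z) := by
  by_cases h : p.Prime ∧ p ∣ Nat.card G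
  swap
  · exact ⟨i, fun h1 h2 => absurd ⟨h1, h2⟩ h⟩
  obtain ⟨z, h1, h2⟩ := ChTab.exists_central h.1 (h.1.factorization_pos_of_dvd Nat.card_pos.ne' h.2).ne'
    (Nat.ordProj_dvd _ _)
  obtain ⟨j, hj⟩ := exists_rep (x := z) (by rintro rfl; exact h.1.ne_one (by simpa using h1.symm))
  refine ⟨j, fun _ _ => ⟨ord_conj hj ▸ h1, fun a ha => cn_conj hj ▸ Dvd.dvd.trans ?_ h2⟩⟩
  exact pow_dvd_pow _ ((h.1.pow_dvd_iff_le_factorization Nat.card_pos.ne').1 ha)

theorem rad_of_ord {x : G} {p : ℕ} (hp : p.Prime) (h : orderOf x = p) : rad x = p :=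
  (rad_prime hp).2 ⟨by rintro rfl; exact hp.ne_one (by simpa using h.symm), 1, by simpa using h⟩

theorem syl_of {x : G} {p : ℕ} (hp : p.Prime) (h : rad x = p) (h2 : ¬ p ^ 2 ∣ Nat.card G) : Syl p x := by
  obtain ⟨h1, k, hk⟩ := (rad_prime hp).1 h
  refine ⟨hp, ?_, h2⟩
  have h3 : k ≠ 0 := by rintro rfl; exact h1 (by simpa using hk)
  have h4 : ¬ 2 ≤ k := fun h => h2 ((pow_dvd_pow _ h).trans (hk ▸ orderOf_dvd_natCard x))
  rw [hk, show k = 1 by omega, pow_one]

theorem cnt_ee {x : G} {p : ℕ} (hs : Syl p x) {t : Finset (Cl G)} (ht : ∀ j, j ∈ t ↔ rad (rep j) = p) :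
    (∀ y : G, rad y = p → cn y = cn x) ∧ #t * ee x + 1 = p := by
  have := Fact.mk hs.prime
  have := Fintype.ofFinite G
  have h1 : ∀ y : G, rad y = p → cn y = cn x := fun y hy => by
    obtain ⟨a, ha⟩ := ChTab.exists_isConj_pow (syl_of hs.prime hy hs.nsq) hs
    rw [cn_conj ha]
    exact congrArg (fun H : Subgroup G => Nat.card H) (ChTab.CC_pow_unit hs a)
  refine ⟨h1, ?_⟩
  have h2 := card_eq_sum (fun y : G => rad y = p) (fun x y h h' => rad_conj h ▸ h')
    (fun h => ((rad_prime hs.prime).1 h).1 rfl) (s := univ.filter (orderOf · = p))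
    (fun y => by simpa using ⟨rad_of_ord hs.prime, fun h => (syl_of hs.prime h hs.nsq).ord⟩) ht
  rw [sum_congr rfl fun j hj => by rw [h1 _ ((ht j).1 hj)], sum_const, smul_eq_mul, div_cn, index_CC hs,
    ← Fintype.card_subtype, ← Nat.card_eq_fintype_card,
    PSL2Rec.card_orderOf_eq_prime (card_sylow_eq_p hs), ← mul_assoc, mul_comm] at h2
  rw [← Nat.eq_of_mul_eq_mul_right Nat.card_pos h2, Nat.sub_add_cancel hs.prime.pos]

variable [IsSimpleGroup G] (hG : ¬ IsMulCommutative G)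
include hG

omit [Finite G] in
theorem perfect : _root_.commutator G = ⊤ := by
  refine (IsSimpleGroup.eq_bot_or_eq_top_of_normal _ inferInstance).resolve_left fun h => hG ⟨⟨fun a b => ?_⟩⟩
  rw [← commutatorElement_eq_one_iff_mul_comm, ← mem_bot, ← h]
  exact commutator_mem_commutator (mem_top a) (mem_top b)

theorem five_aux {x : G} (h : x ≠ 1) : 5 * cn x ≤ Nat.card G := by
  rw [← index_mul_card (centralizer ({x} : Set G))]
  refine Nat.mul_le_mul_right _ (WAb.five_le_index hG fun h1 => ?_)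
  rcases IsSimpleGroup.eq_bot_or_eq_top_of_normal (center G) inferInstance with h2 | h2
  · exact h (by simpa [h2] using cent_eq_top_iff.1 h1)
  · exact hG ⟨⟨fun a b => mem_center_iff.1 (h2 ▸ mem_top b) a⟩⟩

theorem one_aux {x : G} {p : ℕ} (hs : Syl p x) {r : ℕ} (hr : r * ee x + 1 = p) :
    2 ≤ ee x ∧ ee x + r ≤ Nat.card (ConjClasses G) ∧ cn x * ee x ∣ Nat.card G := by
  have := Fact.mk hs.prime
  obtain ⟨ζ, -, ⟨D⟩⟩ := Tuan.exists_data hs
  have h1 := ee_pos x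
  refine ⟨by have := ee_ne_one_of_perfect hs (perfect hG); omega, ?_,
    card_NN x ▸ card_subgroup_dvd_card _⟩
  have h2 : #(Ys D) = r := by rw [ChTab.card_Ys D hs, ← hr, Nat.add_sub_cancel, Nat.mul_div_cancel _ h1]
  rw [← Char.card_irr_eq_card_conjClasses, ← h2, ← card_U D hs, ← D.card_X,
    ← card_union_of_disjoint (disjoint_X_Ys D), ← Nat.card_eq_finsetCard]
  exact Finite.card_subtype_le _

theorem nn_aux {p a : ℕ} (hp : p.Prime) (h1 : p ∣ Nat.card G) (h2 : p ^ a ∣ Nat.card G) {t : Finset (Cl G)}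
    (ht : ∀ j, j ∈ t ↔ rad (rep j) = p) : p ^ a ≤ ∑ j ∈ t, Nat.card G / cn (rep j) := by
  have := Fact.mk hp
  have := Fintype.ofFinite G
  rw [← card_eq_sum (fun y : G => rad y = p) (fun x y h h' => rad_conj h ▸ h')
    (fun h => ((rad_prime hp).1 h).1 rfl) (s := univ.filter (rad · = p)) (by simp) ht]
  obtain ⟨P⟩ : Nonempty (Sylow p G) := inferInstance
  obtain ⟨Q, y, h3, h4⟩ : ∃ Q : Sylow p G, ∃ y ∈ (Q : Subgroup G), y ∉ (P : Subgroup G) := by
    by_contra! h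
    refine SmallSimple.sylow_normalizer_ne_top hG P h1 (eq_top_iff.2 fun g _ => ?_)
    exact Sylow.smul_eq_iff_mem_normalizer.1 (Sylow.ext ((g • P).3 P.2 (h _)).symm)
  have h5 : p ^ a ≤ #(univ.filter (· ∈ (P : Subgroup G))) := by
    rw [← Fintype.card_subtype, ← Nat.card_eq_fintype_card, P.card_eq_multiplicity]
    exact Nat.pow_le_pow_right hp.pos ((hp.pow_dvd_iff_le_factorization Nat.card_pos.ne').1 h2)
  rw [← card_erase_add_one (a := 1) (by simp), ← card_insert_of_notMem (a := y) (by simp [h4])] at h5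
  refine h5.trans (card_le_card fun x hx => mem_filter.2 ⟨mem_univ _, (rad_prime hp).2 ?_⟩)
  rcases mem_insert.1 hx with rfl | hx
  · exact ⟨by rintro rfl; exact h4 (one_mem _), orderOf_eq_pow_of_mem_isPGroup Q.2 h3⟩
  · exact ⟨(mem_erase.1 hx).1, orderOf_eq_pow_of_mem_isPGroup P.2 (mem_filter.1 (mem_erase.1 hx).2).2⟩

variable {K : ℕ} (hK : Nat.card (ConjClasses G) = K) (hK' : K ≤ 11) (h5 : ∀ x : G, x ≠ 1 → 5 ≤ cn x)
include hK hK' h5

theorem two_primes' (x : G) : #(orderOf x).primeFactors ≤ 2 := by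
  obtain ⟨y, hy⟩ := exists_ne (1 : G)
  exact two_primes (hK ▸ hK') h5 (by have := h5 y hy; have := five_aux hG hy; omega) x

/-- the numerical model -/
noncomputable def model (i0 : Cl G) : Model (Cl G) K (Nat.card G) 5 where
  s i := rad (rep i)
  c i := cn (rep i)
  pt := ptc
  z p := (exists_z (p := p) i0).choose
  card := card_Cl.trans hK
  npos := Nat.card_pos.ne'
  sum := sum_aux
  dvd _ := cn_dvd _
  cmin i := h5 _ (rep_ne i)
  five i := five_aux hG (rep_ne i)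
  sdvd _ := rad_dvd_cn _
  typ i := typ_of (rep_ne i) (two_primes' hG hK hK' h5 _)
  pts i _ _ := pts_aux i
  comp i r h hr hd := by
    obtain ⟨p, q, hp, hq, h1, h2⟩ := (typ_of (rep_ne i) (two_primes' hG hK hK' h5 _)).resolve_left h
    exact comp_aux (two_primes' hG hK hK' h5) hp hq h1.ne h2 hr hd
  wit _ _ hp := wit_aux hp rfl
  frob _ _ _ hp hq h1 h2 h3 := frob_aux hp rfl hq h1 h2 h3 (by simp)
  bnd _ hp := bnd_aux hp rfl (by simp)
  zs p hp h := ⟨rad_of_ord hp ((exists_z i0).choose_spec hp h).1, ((exists_z i0).choose_spec hp h).2⟩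
  bf := hK ▸ bf ((exists_z i0).choose_spec Nat.prime_two
    (Dvd.dvd.trans (by norm_num) (SmallSimple.four_dvd hG))).1
  two := Dvd.dvd.trans (by norm_num) (SmallSimple.four_dvd hG)
  one i hp h := by
    have hs := syl_of hp rfl fun h2 => h (sq_dvd_cn hp ((rad_prime hp).1 rfl).2 (sq (rad (rep i)) ▸ h2))
    obtain ⟨h1, h2⟩ := cnt_ee hs (t := univ.filter fun j => rad (rep j) = rad (rep i)) (by simp)
    exact ⟨fun j => h1 _, _, h2, hK ▸ one_aux hG hs h2⟩
  nn p a hp h1 h2 := nn_aux hG hp h1 h2 (by simp)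

omit hG hK hK' h5 [IsSimpleGroup G]

variable (G) in
/-- The class data of `G`: `cl` lists the triples (radical of the element order, centraliser order, number
of such classes), `cz` is the centraliser order of a 2-central involution. -/
structure Dat (cz : ℕ) (cl : List Gp) : Prop where
  cnt : ∀ g ∈ cl, 0 < g.m ∧ ∃ t : Finset (Cl G), #t = g.m ∧ ∀ i, i ∈ t ↔ rad (rep i) = g.s ∧ cn (rep i) = g.c
  all : ∀ x : G, x ≠ 1 → ∃ g ∈ cl, g.s = rad x ∧ g.c = cn x
  z : ∃ t : G, orderOf t = 2 ∧ cn t = cz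

theorem dat_of_fin [IsSimpleGroup G] (hG : ¬ IsMulCommutative G) (hK : Nat.card (ConjClasses G) = K)
    (hK' : K ≤ 11) (h5 : ∀ x : G, x ≠ 1 → 5 ≤ cn x) {ok : ℕ → ℕ → List Gp → Bool}
    (h : ∀ M : Model (Cl G) K (Nat.card G) 5, Inv M (st0 K 5 4 0) → Fin M ok) :
    ∃ cz cl, Dat G cz cl ∧ ok (Nat.card G) cz cl = true := by
  obtain ⟨y, hy⟩ := exists_ne (1 : G)
  obtain ⟨i0, -⟩ := exists_rep hy
  obtain ⟨cl, h1, h2⟩ := h (model hG hK hK' h5 i0) (inv0 _ (SmallSimple.four_dvd hG) (Or.inl rfl))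
  refine ⟨_, cl, ⟨fun g hg => ⟨(h1.cl1 g hg).2, _, (h1.cl1 g hg).1.symm, fun _ => Model.mem_grp⟩,
    fun x hx => ?_, _, ((exists_z i0).choose_spec Nat.prime_two (model hG hK hK' h5 i0).two).1, rfl⟩, h2⟩
  obtain ⟨i, hi⟩ := exists_rep hx
  rw [rad_conj hi, cn_conj hi]
  exact h1.cl2 i (by simp)

end CfsgLib.FewCl
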